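import Groth.Agent.RGamma.HDI
import Groth.Agent.LBC.Basic
import Groth.Agent.KFlat.Ring

/-!
# Derived torsion and change of rings
-/

set_option autoImplicit false
set_option linter.style.haveILetI false

open CategoryTheory CategoryTheory.Limits CategoryTheory.Pretriangulated

universe u

attribute [local instance] HasDerivedCategory.standard

namespace Groth.Agent.RGamma

open DComplete RHomCx

variable {R S : Type u} [CommRing R] [CommRing S]

theorem bijective_comp_transfer [IsNoetherianRing R] (F : Dual.D R ⥤ Dual.D S) [F.CommShift ℤ]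
    [F.IsTriangulated] (J : DRing.Cx R) [∀ n, Injective (J.X n)] (SS : Set S) : ∀ (l : List R),
    (∀ b ∈ l, ∃ s ∈ SS, ∀ X : Dual.D R, IsIso (b • 𝟙 X) → IsIso (s • 𝟙 (F.obj X))) →
    ∀ T : Dual.D S, (∀ s ∈ SS, TorsD s T) → Function.Bijective fun α : T ⟶ _ =>
      α ≫ F.map (DerivedCategory.Q.map (gammaInc (Ideal.span {x | x ∈ l}) J)) := by
  intro l
  induction l with
  | nil =>
    intro _ T _
    have hset : {x : R | x ∈ ([] : List R)} = ∅ := Set.eq_empty_iff_forall_notMem.2 fun x hx => List.not_mem_nil hx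
    rw [hset, Ideal.span_empty]
    haveI : ∀ n, IsIso ((gammaInc (⊥ : Ideal R) J).f n) := fun n =>
      (ConcreteCategory.isIso_iff_bijective _).2 ⟨fun x y h => Subtype.ext h, fun x =>
        ⟨⟨x, 1, fun c hc => by
          rw [pow_one, Ideal.mem_bot] at hc
          rw [hc, zero_smul]⟩, rfl⟩⟩
    haveI : IsIso (gammaInc (⊥ : Ideal R) J) := HomologicalComplex.Hom.isIso_of_components _
    exact ⟨fun a b h => (cancel_mono _).1 h, fun b =>
      ⟨b ≫ inv (F.map (DerivedCategory.Q.map (gammaInc (⊥ : Ideal R) J))),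
        (Category.assoc _ _ _).trans ((congrArg (b ≫ ·) (IsIso.inv_hom_id _)).trans (Category.comp_id b))⟩⟩
  | cons b l ih =>
    intro hl T hT'
    have hset : Ideal.span {x : R | x ∈ b :: l} = Ideal.span {x | x ∈ l} ⊔ Ideal.span {b} := by
      rw [← Ideal.span_union]
      congr 1
      ext x
      simp [or_comm]
    rw [hset]
    let a : Ideal R := Ideal.span {x | x ∈ l}
    let G := gShort a b J
    have hS : G.ShortExact := gShort_shortExact a b J
    obtain ⟨s, hs, hX⟩ := hl b List.mem_cons_self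
    haveI : IsIso (s • 𝟙 (F.obj (DerivedCategory.Q.obj G.X₃))) :=
      hX _ (isIso_smul_Q_loc b ((gammaCx a).obj J))
    have hT : Triangle.mk (F.map (DerivedCategory.Q.map G.f)) (F.map (DerivedCategory.Q.map G.g))
        (F.map (DerivedCategory.triangleOfSES hS).mor₃ ≫ (F.commShiftIso (1 : ℤ)).hom.app _) ∈ distinguishedTriangles :=
      F.map_distinguished _ (DerivedCategory.triangleOfSES_distinguished hS)
    have hι : F.map (DerivedCategory.Q.map (gammaInc (a ⊔ Ideal.span {b}) J)) =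
        F.map (DerivedCategory.Q.map G.f) ≫ F.map (DerivedCategory.Q.map (X := (gammaCx a).obj J) (gammaInc a J)) :=
      (congrArg F.map ((congrArg DerivedCategory.Q.map (show gammaInc (a ⊔ Ideal.span {b}) J = G.f ≫ gammaInc a J from
        HomologicalComplex.hom_ext _ _ fun _ => rfl)).trans (DerivedCategory.Q.map_comp _ _))).trans (F.map_comp _ _)
    have h1 := ih (fun f hf => hl f (List.mem_cons_of_mem _ hf)) T hT'
    have h2 := bijective_comp_left hT (hT' s hs)
    exact bij_congr (h1.comp h2) fun α => by rw [hι]; exact (Category.assoc _ _ _)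

variable (φ : R →+* S)

theorem isIso_smul_extend [PreservesFiniteLimits (ModuleCat.extendScalars.{u, u, u} φ)]
    [PreservesFiniteColimits (ModuleCat.extendScalars.{u, u, u} φ)] (b : R) (X : Dual.D R) [IsIso (b • 𝟙 X)] :
    IsIso (φ b • 𝟙 ((ModuleCat.extendScalars.{u, u, u} φ).mapDerivedCategory.obj X)) := by
  obtain ⟨P, ⟨e⟩⟩ : ∃ P : DRing.Cx R, Nonempty (DerivedCategory.Q.obj P ≅ X) :=
    ⟨_, ⟨(DerivedCategory.Q (C := ModuleCat.{u} R)).objObjPreimageIso X⟩⟩
  let E := ModuleCat.extendScalars.{u, u, u} φ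
  let eY : DerivedCategory.Q.obj ((E.mapHomologicalComplex (ComplexShape.up ℤ)).obj P) ≅
      E.mapDerivedCategory.obj X := (E.mapDerivedCategoryFactors.app P).symm ≪≫ E.mapDerivedCategory.mapIso e
  have hX : DerivedCategory.Q.map (b • 𝟙 P) = e.hom ≫ (b • 𝟙 X) ≫ e.inv := by
    rw [Functor.map_smul, CategoryTheory.Functor.map_id, Linear.smul_comp, Category.id_comp,
      Linear.comp_smul, e.hom_inv_id]
  haveI : IsIso (DerivedCategory.Q.map (b • 𝟙 P)) := by rw [hX]; infer_instance
  haveI : QuasiIso (b • 𝟙 P) := (DerivedCategory.isIso_Q_map_iff_quasiIso _ _).1 inferInstance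
  have hmap : (E.mapHomologicalComplex (ComplexShape.up ℤ)).map (b • 𝟙 P) = φ b • 𝟙 _ := by
    refine HomologicalComplex.hom_ext _ _ fun n => ?_
    show E.map (b • 𝟙 (P.X n)) = φ b • 𝟙 (E.obj (P.X n))
    refine ModuleCat.ExtendScalars.hom_ext fun m => ?_
    letI := φ.toAlgebra
    show (1 : S) ⊗ₜ[R] (b • m) = φ b • ((1 : S) ⊗ₜ[R] m)
    exact (TensorProduct.tmul_smul b (1 : S) m).trans rfl
  haveI : IsIso (DerivedCategory.Q.map (φ b • 𝟙 ((E.mapHomologicalComplex (ComplexShape.up ℤ)).obj P))) := by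
    rw [← hmap]
    exact (DerivedCategory.isIso_Q_map_iff_quasiIso _ _).2 inferInstance
  have hY : φ b • 𝟙 (E.mapDerivedCategory.obj X) =
      eY.inv ≫ DerivedCategory.Q.map (φ b • 𝟙 _) ≫ eY.hom := by
    rw [Functor.map_smul, CategoryTheory.Functor.map_id, Linear.smul_comp, Category.id_comp,
      Linear.comp_smul, eY.inv_hom_id]
  rw [hY]
  infer_instance

theorem isIso_smul_restrictD (s : R) (X : Dual.D S) [IsIso (φ s • 𝟙 X)] :
    IsIso (s • 𝟙 ((DRing.restrictD φ).obj X)) := by
  obtain ⟨P, ⟨e⟩⟩ : ∃ P : DRing.Cx S, Nonempty (DerivedCategory.Q.obj P ≅ X) :=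
    ⟨_, ⟨(DerivedCategory.Q (C := ModuleCat.{u} S)).objObjPreimageIso X⟩⟩
  let E := ModuleCat.restrictScalars.{u} φ
  let eY : DerivedCategory.Q.obj ((E.mapHomologicalComplex (ComplexShape.up ℤ)).obj P) ≅
      E.mapDerivedCategory.obj X := (E.mapDerivedCategoryFactors.app P).symm ≪≫ E.mapDerivedCategory.mapIso e
  have hX : DerivedCategory.Q.map (φ s • 𝟙 P) = e.hom ≫ (φ s • 𝟙 X) ≫ e.inv := by
    rw [Functor.map_smul, CategoryTheory.Functor.map_id, Linear.smul_comp, Category.id_comp,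
      Linear.comp_smul, e.hom_inv_id]
  haveI : IsIso (DerivedCategory.Q.map (φ s • 𝟙 P)) := by rw [hX]; infer_instance
  haveI : QuasiIso (φ s • 𝟙 P) := (DerivedCategory.isIso_Q_map_iff_quasiIso _ _).1 inferInstance
  have hmap : (E.mapHomologicalComplex (ComplexShape.up ℤ)).map (φ s • 𝟙 P) = s • 𝟙 _ :=
    HomologicalComplex.hom_ext _ _ fun n => ModuleCat.hom_ext (LinearMap.ext fun _ => rfl)
  haveI : IsIso (DerivedCategory.Q.map (s • 𝟙 ((E.mapHomologicalComplex (ComplexShape.up ℤ)).obj P))) := by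
    rw [← hmap]
    exact (DerivedCategory.isIso_Q_map_iff_quasiIso _ _).2 inferInstance
  have hY : s • 𝟙 (E.mapDerivedCategory.obj X) =
      eY.inv ≫ DerivedCategory.Q.map (s • 𝟙 _) ≫ eY.hom := by
    rw [Functor.map_smul, CategoryTheory.Functor.map_id, Linear.smul_comp, Category.id_comp,
      Linear.comp_smul, eY.inv_hom_id]
  show IsIso (s • 𝟙 (E.mapDerivedCategory.obj X))
  rw [hY]
  infer_instance

/-- Cohomology commutes with an exact functor of module categories. -/
theorem nonempty_homology_map (F : ModuleCat.{u} R ⥤ ModuleCat.{u} S) [F.Additive] [PreservesFiniteLimits F]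
    [PreservesFiniteColimits F] (X : Dual.D R) (n : ℤ) :
    Nonempty ((DerivedCategory.homologyFunctor (ModuleCat.{u} S) n).obj (F.mapDerivedCategory.obj X) ≅
      F.obj ((DerivedCategory.homologyFunctor (ModuleCat.{u} R) n).obj X)) := by
  obtain ⟨P, ⟨e⟩⟩ : ∃ P : DRing.Cx R, Nonempty (DerivedCategory.Q.obj P ≅ X) :=
    ⟨_, ⟨(DerivedCategory.Q (C := ModuleCat.{u} R)).objObjPreimageIso X⟩⟩
  exact ⟨(DerivedCategory.homologyFunctor _ n).mapIso (F.mapDerivedCategory.mapIso e.symm ≪≫
      F.mapDerivedCategoryFactors.app P) ≪≫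
    (DerivedCategory.homologyFunctorFactors (ModuleCat.{u} S) n).app _ ≪≫ (P.sc n).mapHomologyIso F ≪≫
    F.mapIso (((DerivedCategory.homologyFunctorFactors (ModuleCat.{u} R) n).app P).symm ≪≫
      (DerivedCategory.homologyFunctor _ n).mapIso e)⟩

theorem tors_extend (b : R) (M : ModuleCat.{u} R) (h : ∀ m : M, ∃ k : ℕ, b ^ k • m = 0)
    (y : (ModuleCat.extendScalars.{u, u, u} φ).obj M) : ∃ k : ℕ, φ b ^ k • y = 0 := by
  let N := (ModuleCat.restrictScalars φ).obj (ModuleCat.of S S)
  suffices hh : ∀ z : TensorProduct R N M, ∃ k : ℕ, b ^ k • z = 0 by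
    obtain ⟨k, hk⟩ := hh y
    refine ⟨k, Eq.trans ?_ hk⟩
    rw [← map_pow]
    suffices h2 : ∀ (r : R) (z : TensorProduct R N M),
        φ r • (show (ModuleCat.extendScalars.{u, u, u} φ).obj M from z) = (r • z : TensorProduct R N M) from h2 _ y
    intro r z
    induction z using TensorProduct.induction_on with
    | zero =>
      show φ r • (0 : (ModuleCat.extendScalars.{u, u, u} φ).obj M) = r • (0 : TensorProduct R N M)
      rw [smul_zero, smul_zero]
      rfl
    | tmul c m => exact (TensorProduct.smul_tmul' (R := R) r c m).symm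
    | add z w hz hw =>
      let z' : (ModuleCat.extendScalars.{u, u, u} φ).obj M := z
      let w' : (ModuleCat.extendScalars.{u, u, u} φ).obj M := w
      show φ r • (z' + w') = r • (z + w)
      rw [smul_add, smul_add]
      exact congrArg₂ (· + ·) hz hw
  intro z
  induction z using TensorProduct.induction_on with
  | zero => exact ⟨0, smul_zero _⟩
  | tmul c m =>
    obtain ⟨k, hk⟩ := h m
    exact ⟨k, by rw [← TensorProduct.tmul_smul, hk, TensorProduct.tmul_zero]⟩
  | add z w hz hw =>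
    obtain ⟨k, hk⟩ := hz
    obtain ⟨j, hj⟩ := hw
    refine ⟨k + j, ?_⟩
    rw [smul_add, pow_add, mul_smul (b ^ k) (b ^ j) w, hj, mul_comm, mul_smul, hk, smul_zero, smul_zero, add_zero]

theorem hasRgammaI (I : Ideal R) : DRing.HasRgammaI I := by
  haveI := TriH.hasPointwiseRightDerivedFunctor_of_bijective (L := DerivedCategory.Qh)
    (W := HomotopyCategory.quasiIso (ModuleCat.{u} R) (ComplexShape.up ℤ))
    (TriH.exists_kInjective_homotopy RHomCx.exists_res) (DRing.gammaIKh I)
  infer_instance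

theorem nonempty_transfer [IsNoetherianRing R] [IsNoetherianRing S] (F : Dual.D R ⥤ Dual.D S) [F.CommShift ℤ]
    [F.IsTriangulated] (I : Ideal R) (I' : Ideal S) [DRing.HasRgammaI I] [DRing.HasRgammaI I'] (l : List R)
    (hl : Ideal.span {x | x ∈ l} = I)
    (hb : ∀ b ∈ l, ∃ s ∈ (I' : Set S), ∀ X : Dual.D R, IsIso (b • 𝟙 X) → IsIso (s • 𝟙 (F.obj X)))
    (K : Dual.D R) (hT : ∀ s ∈ I', TorsD s (F.obj ((DRing.RgammaI I).obj K))) :
    Nonempty ((DRing.RgammaI I').obj (F.obj K) ≅ F.obj ((DRing.RgammaI I).obj K)) := by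
  subst hl
  obtain ⟨J, -, hinj, e, a, ha⟩ := exists_model (Ideal.span {x | x ∈ l}) K
  refine nonempty_iso_of_bijective (fun T : Dual.D S => ∀ s ∈ I', TorsD s T)
    ((DRing.RgammaIε I').app (F.obj K)) (F.map ((DRing.RgammaIε (Ideal.span {x | x ∈ l})).app K))
    (fun s hs => torsD_obj I' hs _) hT (fun T h => bijective_ε I' _ T h) fun T h => ?_
  have h0 := bijective_comp_transfer F J (I' : Set S) l hb T h
  have he : Function.Bijective fun α : T ⟶ F.obj (DerivedCategory.Q.obj J) => α ≫ F.map e.hom :=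
    bij_congr ((Iso.refl T).homCongr (F.mapIso e)).bijective fun α => by simp
  have ha' : Function.Bijective fun α : T ⟶ F.obj ((DRing.RgammaI (Ideal.span {x | x ∈ l})).obj K) => α ≫ F.map a.inv :=
    bij_congr ((Iso.refl T).homCongr (F.mapIso a.symm)).bijective fun α => by simp
  refine bij_congr ((he.comp h0).comp ha') fun α => ?_
  simp only [Function.comp_apply, Category.assoc, ← F.map_comp, ← ha, Iso.inv_hom_id_assoc]

/-- Restriction preserves the comparison. -/
def restrictCongr {M : ModuleCat.{u} S} {N : ModuleCat.{u + 1} S} (e : M ≃ₗ[S] N) :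
    (ModuleCat.restrictScalars φ).obj M ≃ₗ[R] (ModuleCat.restrictScalars φ).obj N :=
  { e.toAddEquiv with map_smul' := fun r x => e.map_smul (φ r) x }

/-- Extension preserves the comparison. -/
noncomputable def extendCongr {M : ModuleCat.{u} R} {N : ModuleCat.{u + 1} R} (e : M ≃ₗ[R] N) :
    (ModuleCat.extendScalars.{u, u, u} φ).obj M ≃ₗ[S] (ModuleCat.extendScalars.{u, u, u + 1} φ).obj N :=
  let f := TensorProduct.congr (LinearEquiv.refl R ((ModuleCat.restrictScalars φ).obj (ModuleCat.of S S))) e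
  let g : (ModuleCat.extendScalars.{u, u, u} φ).obj M ≃+ (ModuleCat.extendScalars.{u, u, u + 1} φ).obj N :=
    f.toAddEquiv
  AddEquiv.toLinearEquiv g fun s x => by
    induction x using TensorProduct.induction_on with
    | zero =>
      show g (s • (0 : (ModuleCat.extendScalars.{u, u, u} φ).obj M)) =
        s • g (0 : (ModuleCat.extendScalars.{u, u, u} φ).obj M)
      rw [smul_zero, map_zero, smul_zero]
    | tmul c y => rfl
    | add x y hx hy =>
      let x' : (ModuleCat.extendScalars.{u, u, u} φ).obj M := x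
      let y' : (ModuleCat.extendScalars.{u, u, u} φ).obj M := y
      show g (s • (x' + y')) = s • g (x' + y')
      rw [smul_add, map_add, map_add, smul_add]
      exact congrArg₂ (· + ·) hx hy

variable (A B : Type u) [CommRing A] [CommRing B] [Algebra A B] [IsNoetherianRing A] [IsNoetherianRing B]
  (I : Ideal A)

theorem nonempty_HDI_restrict (K : Dual.D B) (i : ℤ) :
    Nonempty (Dual2.HDI A I ((DRing.restrictD (algebraMap A B)).obj K) i ≅
      (ModuleCat.restrictScalars (algebraMap A B)).obj (Dual2.HDI B (I.map (algebraMap A B)) K i)) := by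
  let φ := algebraMap A B
  haveI := hasRgammaI I
  haveI := hasRgammaI (I.map φ)
  obtain ⟨l, hl⟩ := exists_list I
  have hl' : Ideal.span {x : B | x ∈ l.map φ} = I.map φ := by
    rw [← hl, Ideal.map_span]
    congr 1
    ext x
    simp
  obtain ⟨g⟩ := nonempty_transfer (DRing.restrictD φ) (I.map φ) I (l.map φ) hl' (fun b hb => by
      obtain ⟨s, hs, rfl⟩ := List.mem_map.1 hb
      exact ⟨s, mem_of_list I hl hs, fun X _ => isIso_smul_restrictD φ s X⟩) K
    (fun s hs n x => by
      obtain ⟨h⟩ := nonempty_homology_map (ModuleCat.restrictScalars.{u} φ) ((DRing.RgammaI (I.map φ)).obj K) n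
      obtain ⟨k, hk⟩ := torsD_obj (I.map φ) (Ideal.mem_map_of_mem φ hs) K n (h.toLinearEquiv x)
      refine ⟨k, h.toLinearEquiv.injective ?_⟩
      rw [map_smul, map_zero]
      show φ (s ^ k) • (h.toLinearEquiv x : Dual.HD B ((DRing.RgammaI (I.map φ)).obj K) n) = 0
      rw [map_pow]
      exact hk)
  obtain ⟨u₁⟩ := nonempty_HD_equiv i I ((DRing.restrictD φ).obj K)
  obtain ⟨u₂⟩ := nonempty_HD_equiv i (I.map φ) K
  obtain ⟨h⟩ := nonempty_homology_map (ModuleCat.restrictScalars.{u} φ) ((DRing.RgammaI (I.map φ)).obj K) i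
  exact ⟨(u₁.symm ≪≫ₗ ((DerivedCategory.homologyFunctor (ModuleCat.{u} A) i).mapIso g ≪≫ h).toLinearEquiv ≪≫ₗ
    restrictCongr φ u₂).toModuleIso⟩

theorem nonempty_HDI_extend [Module.Flat A B] [DRing.HasLBaseChange (algebraMap A B)] (K : Dual.D A) (i : ℤ) :
    Nonempty (Dual2.HDI B (I.map (algebraMap A B)) ((DRing.LBaseChange (algebraMap A B)).obj K) i ≅
      (ModuleCat.extendScalars (algebraMap A B)).obj (Dual2.HDI A I K i)) := by
  let φ := algebraMap A B
  haveI := ModuleCat.preservesFiniteLimits_extendScalars_of_flat.{u} (f := φ) (RingHom.flat_algebraMap_iff.2 ‹_›)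
  haveI := (ModuleCat.extendRestrictScalarsAdj.{u, u, u} φ).leftAdjoint_preservesColimits.{0, 0}
  let E := ModuleCat.extendScalars.{u, u, u} φ
  haveI := hasRgammaI I
  haveI := hasRgammaI (I.map φ)
  obtain ⟨P, ⟨eP⟩⟩ : ∃ P : DRing.Cx A, Nonempty (DerivedCategory.Q.obj P ≅ K) :=
    ⟨_, ⟨(DerivedCategory.Q (C := ModuleCat.{u} A)).objObjPreimageIso K⟩⟩
  obtain ⟨Rr, q, hR, hq⟩ := KFlat.exists_kFlat_resolution A P
  haveI : IsIso (DerivedCategory.Q.map q) := (DerivedCategory.isIso_Q_map_iff_quasiIso _ _).2 hq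
  let eR : DerivedCategory.Q.obj Rr ≅ K := asIso (DerivedCategory.Q.map q) ≪≫ eP
  haveI := LBC.isIso_counit_of_kFlat φ Rr hR
  let eL : (DRing.LBaseChange φ).obj K ≅ E.mapDerivedCategory.obj K :=
    (DRing.LBaseChange φ).mapIso (eR.symm ≪≫ ((DerivedCategory.quotientCompQhIso (ModuleCat.{u} A)).app Rr).symm) ≪≫
      asIso ((LBC.counit φ).app Rr) ≪≫ (LBC.ΦIso φ).app Rr ≪≫ (E.mapDerivedCategoryFactors.app Rr).symm ≪≫
      E.mapDerivedCategory.mapIso eR
  obtain ⟨l, hl⟩ := exists_list I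
  have htors : ∀ s ∈ I.map φ, TorsD s (E.mapDerivedCategory.obj ((DRing.RgammaI I).obj K)) := by
    intro s hs
    refine torsD_of_forall (fun n => (isPowerTorsion_iff (s := φ '' {x | x ∈ l}) (by rw [← Ideal.map_span, hl])
      (IsNoetherian.noetherian _) _).2 ?_) hs
    rintro _ ⟨b, hbl, rfl⟩ x
    obtain ⟨h⟩ := nonempty_homology_map E ((DRing.RgammaI I).obj K) n
    exact tors_of_linearEquiv h.symm.toLinearEquiv
      (fun y => tors_extend φ b _ (fun m => torsD_obj I (mem_of_list I hl hbl) K n m) y) x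
  obtain ⟨g⟩ := nonempty_transfer E.mapDerivedCategory I (I.map φ) l hl (fun b hb =>
      ⟨φ b, Ideal.mem_map_of_mem φ (mem_of_list I hl hb), fun X _ => isIso_smul_extend φ b X⟩) K htors
  obtain ⟨u₁⟩ := nonempty_HD_equiv i (I.map φ) ((DRing.LBaseChange φ).obj K)
  obtain ⟨u₂⟩ := nonempty_HD_equiv i I K
  obtain ⟨h⟩ := nonempty_homology_map E ((DRing.RgammaI I).obj K) i
  exact ⟨(u₁.symm ≪≫ₗ ((DerivedCategory.homologyFunctor (ModuleCat.{u} B) i).mapIso
      ((DRing.RgammaI (I.map φ)).mapIso eL ≪≫ g) ≪≫ h).toLinearEquiv ≪≫ₗ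
    extendCongr φ u₂).toModuleIso⟩

end Groth.Agent.RGamma
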