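import Groth.Agent.RGamma.Basic
import Groth.Prelude.Def_DualLC
import Mathlib.CategoryTheory.Limits.ConcreteCategory.Basic
import Mathlib.Algebra.Category.ModuleCat.FilteredColimits

/-!
# Derived torsion as a colimit of maps out of `A/I^n`
-/

set_option autoImplicit false
set_option linter.style.haveILetI false

open CategoryTheory CategoryTheory.Limits CategoryTheory.Pretriangulated Opposite

universe u

attribute [local instance] HasDerivedCategory.standard

namespace Groth.Agent.RGamma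

open DComplete RHomCx PCohLib CochainComplex

variable {A : Type u} [CommRing A] (J : DRing.Cx A) (q : ℤ)

theorem aux_cyc {X : ModuleCat.{u} A} (f : X ⟶ J.X q) (hf : ∀ b, f ≫ J.d q b = 0) (ε : ℤˣ) (a b : ℤ)
    (ha : a = q) : (f ≫ (J.XIsoOfEq ha).inv) ≫ (ε • J.d a b) = 0 := by
  subst ha
  simp [Units.smul_def, Preadditive.comp_zsmul, hf]

theorem aux_surj {X : ModuleCat.{u} A} (ε : ℤˣ) (a b : ℤ) (ha : a = q) (hb : b = q + 1) (g : X ⟶ J.X a)
    (hg : g ≫ (ε • J.d a b) = 0) : (g ≫ (J.XIsoOfEq ha).hom) ≫ J.d q (q + 1) = 0 := by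
  subst ha hb
  rw [Units.smul_def, Preadditive.comp_zsmul] at hg
  have h := congrArg (fun t => ((ε : ℤ)) • t) hg
  simpa [smul_smul, ← Units.val_mul] using h

theorem aux_ker {X : ModuleCat.{u} A} (ε : ℤˣ) (a b : ℤ) (ha : a = q - 1) (hb : b = q) (g : X ⟶ J.X a) :
    ∃ w : X ⟶ J.X (q - 1), g ≫ (ε • J.d a b) = (w ≫ J.d (q - 1) q) ≫ (J.XIsoOfEq hb).inv := by
  subst ha hb
  exact ⟨ε • g, by simp [Units.smul_def, Preadditive.comp_zsmul, Preadditive.zsmul_comp]⟩

theorem aux_null {X : ModuleCat.{u} A} (ε : ℤˣ) (a b : ℤ) (ha : a = q - 1) (hb : b = q) (w : X ⟶ J.X (q - 1)) :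
    (w ≫ J.d (q - 1) q) ≫ (J.XIsoOfEq hb).inv = ((ε • w) ≫ (J.XIsoOfEq ha).inv) ≫ (ε • J.d a b) := by
  subst ha hb
  simp [Units.smul_def, Preadditive.comp_zsmul, Preadditive.zsmul_comp, smul_smul, ← Units.val_mul]

/-- Maps from `M` into the cycles of degree `q`. -/
noncomputable def cyc (M : ModuleCat.{u} A) : Submodule A (M →ₗ[A] J.X q) :=
  LinearMap.ker (LinearMap.llcomp A M (J.X q) (J.X (q + 1)) (J.d q (q + 1)).hom)

theorem cyc_apply {M : ModuleCat.{u} A} (z : cyc J q M) (m : M) : (J.d q (q + 1)).hom (z.1 m) = 0 :=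
  congrArg (fun l : M →ₗ[A] J.X (q + 1) => l m) z.2

/-- The chain map of a cycle. -/
noncomputable def cycHom {M : ModuleCat.{u} A} (z : cyc J q M) :
    RHomCx.sgl M ⟶ (CategoryTheory.shiftFunctor (DRing.Cx A) q).obj J :=
  HomologicalComplex.mkHomFromSingle
    (ModuleCat.ofHom z.1 ≫ (J.shiftFunctorObjXIso q 0 q (by lia)).inv) (fun k hk => by
      obtain rfl : 0 + 1 = k := hk
      have h : ModuleCat.ofHom z.1 ≫ J.d q (q + 1) = 0 := ModuleCat.hom_ext z.2
      have h' : ∀ b, ModuleCat.ofHom z.1 ≫ J.d q b = 0 := fun b => by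
        by_cases hb : q + 1 = b
        · subst hb; exact h
        · rw [J.shape q b hb, comp_zero]
      exact aux_cyc J q (ModuleCat.ofHom z.1) h' q.negOnePow _ _ _)

theorem cycHom_f {M : ModuleCat.{u} A} (z : cyc J q M) : (cycHom J q z).f 0 =
    (HomologicalComplex.singleObjXSelf (ComplexShape.up ℤ) 0 M).hom ≫
      ModuleCat.ofHom z.1 ≫ (J.shiftFunctorObjXIso q 0 q (by lia)).inv :=
  HomologicalComplex.mkHomFromSingle_f _ _

/-- The morphism of a cycle. -/
noncomputable def psi {K : Dual.D A} (e : DerivedCategory.Q.obj J ≅ K) (M : ModuleCat.{u} A) :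
    cyc J q M →ₗ[A] ((DerivedCategory.singleFunctor (ModuleCat.{u} A) 0).obj M ⟶ K⟦q⟧) where
  toFun z := (singleQIso 0 M).inv ≫ DerivedCategory.Q.map (cycHom J q z) ≫
    ((DerivedCategory.Q.commShiftIso q).app J ≪≫ (CategoryTheory.shiftFunctor (Dual.D A) q).mapIso e).hom
  map_add' z w := by
    have h : cycHom J q (z + w) = cycHom J q z + cycHom J q w := HomologicalComplex.from_single_hom_ext (by
      rw [HomologicalComplex.add_f_apply, cycHom_f, cycHom_f, cycHom_f, ← Preadditive.comp_add,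
        ← Preadditive.add_comp]
      rfl)
    rw [h, Functor.map_add, Preadditive.add_comp, Preadditive.comp_add]
  map_smul' c z := by
    have h : cycHom J q (c • z) = c • cycHom J q z := HomologicalComplex.from_single_hom_ext (by
      rw [HomologicalComplex.smul_f_apply, cycHom_f, cycHom_f, ← Linear.comp_smul, ← Linear.smul_comp]
      rfl)
    rw [h, Functor.map_smul, Linear.smul_comp, Linear.comp_smul]
    rfl

variable {K : Dual.D A} (e : DerivedCategory.Q.obj J ≅ K)

theorem psi_surjective [J.IsKInjective] (M : ModuleCat.{u} A) : Function.Surjective (psi J q e M) := by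
  intro α
  let Φ := (DerivedCategory.Q.commShiftIso q).app J ≪≫ (CategoryTheory.shiftFunctor (Dual.D A) q).mapIso e
  obtain ⟨m, hm⟩ := (RHomCx.good J ((CategoryTheory.shiftFunctor (DRing.Cx A) q).obj J)).lift
    (RHomCx.sgl M) ((singleQIso 0 M).hom ≫ α ≫ Φ.inv)
  let m0 : (RHomCx.sgl M).X 0 ⟶ J.X (0 + q) := m.f 0
  let z : M →ₗ[A] J.X q := ((HomologicalComplex.singleObjXSelf (ComplexShape.up ℤ) 0 M).inv ≫ m0 ≫
    (J.XIsoOfEq (zero_add q)).hom).hom
  have hz : z ∈ cyc J q M := by
    have hc : m0 ≫ (q.negOnePow • J.d (0 + q) (0 + 1 + q)) = 0 := by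
      have hc := m.comm 0 (0 + 1)
      rw [HomologicalComplex.single_obj_d, zero_comp] at hc
      exact hc
    have h := aux_surj J q q.negOnePow (0 + q) (0 + 1 + q) (zero_add q) (by lia) m0 hc
    have h' : ((HomologicalComplex.singleObjXSelf (ComplexShape.up ℤ) 0 M).inv ≫ m0 ≫
        (J.XIsoOfEq (zero_add q)).hom) ≫ J.d q (q + 1) = 0 := by
      rw [Category.assoc, h, comp_zero]
    exact congrArg ModuleCat.Hom.hom h'
  refine ⟨⟨z, hz⟩, ?_⟩
  have hm' : cycHom J q ⟨z, hz⟩ = m := HomologicalComplex.from_single_hom_ext (by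
    rw [cycHom_f]
    show (HomologicalComplex.singleObjXSelf (ComplexShape.up ℤ) 0 M).hom ≫
      ((HomologicalComplex.singleObjXSelf (ComplexShape.up ℤ) 0 M).inv ≫ m0 ≫ (J.XIsoOfEq (zero_add q)).hom) ≫
        (J.XIsoOfEq (zero_add q)).inv = m0
    simp)
  show (singleQIso 0 M).inv ≫ DerivedCategory.Q.map (cycHom J q ⟨z, hz⟩) ≫ Φ.hom = α
  rw [hm', hm]
  simp

theorem exists_of_psi_eq_zero [J.IsKInjective] {M : ModuleCat.{u} A} (z : cyc J q M) (h : psi J q e M z = 0) :
    ∃ w : M →ₗ[A] J.X (q - 1), ∀ m, z.1 m = (J.d (q - 1) q).hom (w m) := by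
  let J' := (CategoryTheory.shiftFunctor (DRing.Cx A) q).obj J
  have h1 : DerivedCategory.Q.map (cycHom J q z) = DerivedCategory.Q.map (0 : RHomCx.sgl M ⟶ J') := by
    rw [Functor.map_zero]
    change (singleQIso 0 M).inv ≫ DerivedCategory.Q.map (cycHom J q z) ≫ _ = 0 at h
    rwa [Preadditive.IsIso.comp_left_eq_zero, Preadditive.IsIso.comp_right_eq_zero] at h
  have h2 : (HomotopyCategory.quotient (ModuleCat.{u} A) (ComplexShape.up ℤ)).map (cycHom J q z) =
      (HomotopyCategory.quotient (ModuleCat.{u} A) (ComplexShape.up ℤ)).map (0 : RHomCx.sgl M ⟶ J') := by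
    refine (TriH.Qh_bijective_of_isKInjective J' _).1 ?_
    rw [← cancel_mono ((DerivedCategory.quotientCompQhIso (ModuleCat.{u} A)).hom.app J'),
      DerivedCategory.quotientCompQhIso_hom_naturality, DerivedCategory.quotientCompQhIso_hom_naturality, h1]
  let H := HomotopyCategory.homotopyOfEq _ _ h2
  have hc := H.comm 0
  rw [dNext_eq _ (show (ComplexShape.up ℤ).Rel 0 1 from rfl),
    prevD_eq _ (show (ComplexShape.up ℤ).Rel (-1) 0 from rfl), HomologicalComplex.single_obj_d, zero_comp,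
    zero_add, HomologicalComplex.zero_f, add_zero, cycHom_f] at hc
  let g : M ⟶ J.X (-1 + q) := (HomologicalComplex.singleObjXSelf (ComplexShape.up ℤ) 0 M).inv ≫ H.hom 0 (-1)
  obtain ⟨w, hw⟩ := aux_ker J q q.negOnePow (-1 + q) (0 + q) (by lia) (zero_add q) g
  refine ⟨w.hom, fun m => ?_⟩
  have hc2 : (ModuleCat.ofHom z.1) ≫ (J.XIsoOfEq (zero_add q)).inv = g ≫ (q.negOnePow • J.d (-1 + q) (0 + q)) := by
    have h3 := congrArg ((HomologicalComplex.singleObjXSelf (ComplexShape.up ℤ) 0 M).inv ≫ ·) hc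
    simp only [Iso.inv_hom_id_assoc] at h3
    exact h3.trans (Category.assoc _ _ _).symm
  exact ConcreteCategory.congr_hom ((cancel_mono (J.XIsoOfEq (zero_add q)).inv).1 (hc2.trans hw)) m

theorem psi_eq_zero {M : ModuleCat.{u} A} (z : cyc J q M) (w : M →ₗ[A] J.X (q - 1))
    (hw : ∀ m, z.1 m = (J.d (q - 1) q).hom (w m)) : psi J q e M z = 0 := by
  let J' := (CategoryTheory.shiftFunctor (DRing.Cx A) q).obj J
  let h : ∀ i j, (ComplexShape.up ℤ).Rel j i → ((RHomCx.sgl M).X i ⟶ J'.X j) := fun i j r =>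
    if hi : i = 0 then (HomologicalComplex.singleObjXIsoOfEq (ComplexShape.up ℤ) 0 M i hi).hom ≫
      (q.negOnePow • ModuleCat.ofHom w) ≫ (J.shiftFunctorObjXIso q j (q - 1) (by simp at r; lia)).inv
    else 0
  have hz : ModuleCat.ofHom z.1 = ModuleCat.ofHom w ≫ J.d (q - 1) q := ModuleCat.hom_ext (LinearMap.ext hw)
  have he : cycHom J q z = Homotopy.nullHomotopicMap' h := HomologicalComplex.from_single_hom_ext (by
    rw [Homotopy.nullHomotopicMap'_f (show (ComplexShape.up ℤ).Rel (-1) 0 from rfl)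
      (show (ComplexShape.up ℤ).Rel 0 1 from rfl), HomologicalComplex.single_obj_d, zero_comp, zero_add,
      cycHom_f, hz]
    simp only [h, dif_pos rfl]
    show (HomologicalComplex.singleObjXSelf (ComplexShape.up ℤ) 0 M).hom ≫
        (ModuleCat.ofHom w ≫ J.d (q - 1) q) ≫ (J.XIsoOfEq (zero_add q)).inv =
      ((HomologicalComplex.singleObjXSelf (ComplexShape.up ℤ) 0 M).hom ≫
        (q.negOnePow • ModuleCat.ofHom w) ≫ (J.XIsoOfEq (show -1 + q = q - 1 by lia)).inv) ≫
        (q.negOnePow • J.d (-1 + q) (0 + q))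
    rw [aux_null J q q.negOnePow (-1 + q) (0 + q) (by lia) (zero_add q)]
    exact (Category.assoc _ _ _).symm)
  have h0 : DerivedCategory.Q.map (cycHom J q z) = 0 := by
    rw [he]
    refine (cancel_epi ((DerivedCategory.quotientCompQhIso (ModuleCat.{u} A)).hom.app _)).1 ?_
    rw [← DerivedCategory.quotientCompQhIso_hom_naturality,
      HomotopyCategory.eq_of_homotopy _ _ (Homotopy.nullHomotopy' h), Functor.map_zero, Functor.map_zero,
      zero_comp, comp_zero]
  show (singleQIso 0 M).inv ≫ DerivedCategory.Q.map (cycHom J q z) ≫ _ = 0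
  rw [h0, zero_comp, comp_zero]

/-- Restriction of cycles. -/
noncomputable def cycComp {M N : ModuleCat.{u} A} (u : M ⟶ N) (z : cyc J q N) : cyc J q M :=
  ⟨z.1.comp u.hom, LinearMap.ext fun m => cyc_apply J q z (u.hom m)⟩

theorem psi_comp {M N : ModuleCat.{u} A} (u : M ⟶ N) (z : cyc J q N) :
    (DerivedCategory.singleFunctor (ModuleCat.{u} A) 0).map u ≫ psi J q e N z = psi J q e M (cycComp J q u z) := by
  have hh : (HomologicalComplex.single (ModuleCat.{u} A) (ComplexShape.up ℤ) 0).map u ≫ cycHom J q z =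
      cycHom J q (cycComp J q u z) := HomologicalComplex.from_single_hom_ext (by
    rw [HomologicalComplex.comp_f, HomologicalComplex.single_map_f_self, cycHom_f, cycHom_f]
    simp only [Category.assoc, Iso.inv_hom_id_assoc]
    rfl)
  have n1 : (DerivedCategory.singleFunctor (ModuleCat.{u} A) 0).map u ≫ (singleQIso 0 N).inv =
      (singleQIso 0 M).inv ≫
        DerivedCategory.Q.map ((HomologicalComplex.single (ModuleCat.{u} A) (ComplexShape.up ℤ) 0).map u) :=
    (DerivedCategory.singleFunctorIsoCompQ (ModuleCat.{u} A) 0).hom.naturality u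
  show (DerivedCategory.singleFunctor (ModuleCat.{u} A) 0).map u ≫ (singleQIso 0 N).inv ≫ _ ≫ _ = _
  rw [reassoc_of% n1, ← DerivedCategory.Q.map_comp_assoc, hh]
  rfl

variable (I : Ideal A)

/-- The class of a cycle killed by `I^n`. -/
noncomputable def evKer (n : ℕ) : cyc J q (ModuleCat.of A (A ⧸ I ^ n)) →ₗ[A]
    LinearMap.ker (((gammaCx I).obj J).sc q).g.hom :=
  LinearMap.codRestrict _
    (LinearMap.codRestrict (DRing.torsionSub I (J.X q))
      { toFun := fun z => z.1 (Submodule.Quotient.mk (1 : A))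
        map_add' := fun _ _ => rfl
        map_smul' := fun _ _ => rfl }
      fun z => ⟨n, fun a ha => by
        show a • z.1 (Submodule.Quotient.mk (1 : A)) = 0
        rw [← map_smul, ← Submodule.Quotient.mk_smul, smul_eq_mul, mul_one,
          (Submodule.Quotient.mk_eq_zero _).2 ha, map_zero]⟩)
    fun z => by
      rw [LinearMap.mem_ker]
      have h : ∀ b, b = q + 1 → ∀ x : DRing.torsionSub I (J.X q), (J.d q (q + 1)).hom x.1 = 0 →
          ((gammaCx I).obj J).d q b x = 0 := fun b hb x hx => by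
        subst hb
        exact Subtype.ext hx
      exact h _ (CochainComplex.next ℤ q) _ (cyc_apply J q z _)

/-- The class. -/
noncomputable def cls (n : ℕ) : cyc J q (ModuleCat.of A (A ⧸ I ^ n)) →ₗ[A] ((gammaCx I).obj J).homology q :=
  (LocCohLib.scCls (((gammaCx I).obj J).sc q)).comp (evKer J q I n)

theorem cls_eq_zero_iff (n : ℕ) (z : cyc J q (ModuleCat.of A (A ⧸ I ^ n))) :
    cls J q I n z = 0 ↔ ∃ y : DRing.torsionSub I (J.X (q - 1)),
      (J.d (q - 1) q).hom y.1 = z.1 (Submodule.Quotient.mk (1 : A)) := by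
  refine (LocCohLib.scCls_eq_zero _).trans ?_
  show (∃ y, ((gammaCx I).obj J).d ((ComplexShape.up ℤ).prev q) q y = _) ↔ _
  rw [CochainComplex.prev]
  exact ⟨fun ⟨y, hy⟩ => ⟨y, congrArg Subtype.val hy⟩, fun ⟨y, hy⟩ => ⟨y, Subtype.ext hy⟩⟩

variable [J.IsKInjective]

theorem ker_psi_le (n : ℕ) : LinearMap.ker (psi J q e (ModuleCat.of A (A ⧸ I ^ n))) ≤ LinearMap.ker (cls J q I n) := by
  intro z hz
  obtain ⟨w, hw⟩ := exists_of_psi_eq_zero J q e z hz
  refine (cls_eq_zero_iff J q I n z).2 ⟨⟨w (Submodule.Quotient.mk (1 : A)), n, fun a ha => ?_⟩, (hw _).symm⟩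
  rw [← map_smul, ← Submodule.Quotient.mk_smul, smul_eq_mul, mul_one,
    (Submodule.Quotient.mk_eq_zero _).2 ha, map_zero]

/-- The leg. -/
noncomputable def leg (n : ℕ) :
    ((DerivedCategory.singleFunctor (ModuleCat.{u} A) 0).obj (ModuleCat.of A (A ⧸ I ^ n)) ⟶ K⟦q⟧) →ₗ[A]
      ((gammaCx I).obj J).homology q :=
  ((LinearMap.ker (psi J q e _)).liftQ (cls J q I n) (ker_psi_le J q e I n)).comp
    ((psi J q e _).quotKerEquivOfSurjective (psi_surjective J q e _)).symm.toLinearMap

theorem leg_psi (n : ℕ) (z : cyc J q (ModuleCat.of A (A ⧸ I ^ n))) :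
    leg J q e I n (psi J q e _ z) = cls J q I n z := by
  have h : ((psi J q e (ModuleCat.of A (A ⧸ I ^ n))).quotKerEquivOfSurjective (psi_surjective J q e _)).symm
      (psi J q e _ z) = Submodule.Quotient.mk z := by
    rw [LinearEquiv.symm_apply_eq]
    rfl
  refine (congrArg ((LinearMap.ker (psi J q e _)).liftQ (cls J q I n) (ker_psi_le J q e I n)) h).trans ?_
  rfl

/-- The diagram. -/
noncomputable abbrev diag (K : Dual.D A) : (ℕᵒᵖ)ᵒᵖ ⥤ ModuleCat.{u + 1} A :=
  (localCohomology.ringModIdeals (localCohomology.idealPowersDiagram I) ⋙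
    DerivedCategory.singleFunctor (ModuleCat.{u} A) 0).op ⋙ (linearYoneda A (Dual.D A)).obj (K⟦q⟧)

/-- The cocone. -/
noncomputable def hdCocone : Cocone (diag q I K) where
  pt := ModuleCat.of A (ULift.{u + 1} (((gammaCx I).obj J).homology q))
  ι :=
    { app := fun t => ModuleCat.ofHom ((ULift.moduleEquiv (R := A) (M := ((gammaCx I).obj J).homology q)).symm.toLinearMap.comp (leg J q e I t.unop.unop))
      naturality := fun t t' f => by
        refine ModuleCat.hom_ext (LinearMap.ext fun φ => ?_)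
        obtain ⟨z, rfl⟩ := psi_surjective J q e (ModuleCat.of A (A ⧸ I ^ t.unop.unop)) φ
        show (ULift.moduleEquiv (R := A) (M := ((gammaCx I).obj J).homology q)).symm (leg J q e I t'.unop.unop
          ((DerivedCategory.singleFunctor (ModuleCat.{u} A) 0).map _ ≫ psi J q e _ z)) = (ULift.moduleEquiv (R := A) (M := ((gammaCx I).obj J).homology q)).symm _
        refine congrArg (ULift.moduleEquiv (R := A) (M := ((gammaCx I).obj J).homology q)).symm ?_
        refine (congrArg (leg J q e I t'.unop.unop) (psi_comp J q e _ z)).trans ?_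
        refine (leg_psi J q e I _ _).trans ((congrArg (LocCohLib.scCls (((gammaCx I).obj J).sc q)) (Subtype.ext (Subtype.ext ?_))).trans
          (leg_psi J q e I _ z).symm)
        rfl }

theorem exists_rep_colimit (F : (ℕᵒᵖ)ᵒᵖ ⥤ ModuleCat.{u + 1} A) [HasColimit F] (x : (colimit F : ModuleCat.{u + 1} A)) :
    ∃ (n : ℕ) (φ : F.obj (op (op n))), (colimit.ι F (op (op n))).hom φ = x := by
  let S : ℕ → Submodule A (colimit F : ModuleCat.{u + 1} A) := fun n =>
    LinearMap.range (colimit.ι F (op (op n))).hom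
  have hmono : Monotone S := fun n m h => by
    rintro _ ⟨φ, rfl⟩
    exact ⟨F.map (homOfLE h).op.op φ, ConcreteCategory.congr_hom (colimit.w F (homOfLE h).op.op) φ⟩
  have h : (ModuleCat.ofHom (⨆ n, S n).mkQ : colimit F ⟶ ModuleCat.of A _) = 0 := colimit.hom_ext fun t => by
    obtain ⟨t⟩ := t
    obtain ⟨t⟩ := t
    refine (ModuleCat.hom_ext (LinearMap.ext fun φ => ?_)).trans comp_zero.symm
    exact (Submodule.Quotient.mk_eq_zero _).2 (Submodule.mem_iSup_of_mem t ⟨φ, rfl⟩)
  have hx : x ∈ ⨆ n, S n := (Submodule.Quotient.mk_eq_zero _).1 (ConcreteCategory.congr_hom h x)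
  obtain ⟨n, φ, hφ⟩ := (Submodule.mem_iSup_of_directed S hmono.directed_le).1 hx
  exact ⟨n, φ, hφ⟩

theorem hd_bijective : Function.Bijective (colimit.desc _ (hdCocone J q e I)).hom := by
  refine ⟨(injective_iff_map_eq_zero _).2 fun x hx => ?_, fun x => ?_⟩
  · obtain ⟨n, φ, rfl⟩ := exists_rep_colimit _ x
    obtain ⟨z, rfl⟩ := psi_surjective J q e (ModuleCat.of A (A ⧸ I ^ n)) φ
    have h1 : cls J q I n z = 0 := by
      have h2 := ConcreteCategory.congr_hom (colimit.ι_desc (hdCocone J q e I) (op (op n))) (psi J q e _ z)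
      have h3 : (ULift.moduleEquiv (R := A) (M := ((gammaCx I).obj J).homology q)).symm (leg J q e I n (psi J q e _ z)) = 0 := h2.symm.trans hx
      rw [leg_psi] at h3
      exact (ULift.moduleEquiv (R := A) (M := ((gammaCx I).obj J).homology q)).symm.injective (h3.trans (map_zero _).symm)
    obtain ⟨⟨y, m, hm⟩, hy⟩ := (cls_eq_zero_iff J q I n z).1 h1
    let p := max n m
    let f : (op (op n) : (ℕᵒᵖ)ᵒᵖ) ⟶ op (op p) := (homOfLE (le_max_left n m)).op.op
    let w : (A ⧸ I ^ p) →ₗ[A] J.X (q - 1) := Submodule.liftQ (I ^ p) (LinearMap.toSpanSingleton A _ y)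
      fun a ha => by
        rw [LinearMap.mem_ker, LinearMap.toSpanSingleton_apply]
        exact hm a (Ideal.pow_le_pow_right (le_max_right n m) ha)
    have h0 : (diag q I K).map f (psi J q e _ z) = 0 := by
      refine (psi_comp J q e _ z).trans (psi_eq_zero J q e _ w fun v => ?_)
      obtain ⟨a, rfl⟩ := Submodule.Quotient.mk_surjective _ v
      show z.1 (Submodule.Quotient.mk a) = (J.d (q - 1) q).hom (a • y)
      rw [map_smul, hy, ← map_smul, ← Submodule.Quotient.mk_smul, smul_eq_mul, mul_one]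
    refine (ConcreteCategory.congr_hom (colimit.w (diag q I K) f) (psi J q e _ z)).symm.trans ?_
    show (colimit.ι (diag q I K) (op (op p))).hom ((diag q I K).map f (psi J q e _ z)) = 0
    rw [h0, map_zero]
  · obtain ⟨x⟩ := x
    obtain ⟨⟨⟨v, n, hn⟩, hv⟩, rfl⟩ := LocCohLib.scCls_surjective (((gammaCx I).obj J).sc q) x
    have hd : (J.d q (q + 1)).hom v = 0 := by
      have h : ((gammaCx I).obj J).d q ((ComplexShape.up ℤ).next q) ⟨v, n, hn⟩ = 0 := hv
      rw [CochainComplex.next] at h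
      exact congrArg Subtype.val h
    let z0 : (A ⧸ I ^ n) →ₗ[A] J.X q := Submodule.liftQ (I ^ n) (LinearMap.toSpanSingleton A _ v)
      fun a ha => by rw [LinearMap.mem_ker, LinearMap.toSpanSingleton_apply]; exact hn a ha
    let z : cyc J q (ModuleCat.of A (A ⧸ I ^ n)) := ⟨z0, LinearMap.ext fun w => by
      obtain ⟨a, rfl⟩ := Submodule.Quotient.mk_surjective _ w
      show (J.d q (q + 1)).hom (a • v) = 0
      rw [map_smul, hd, smul_zero]⟩
    refine ⟨(colimit.ι (diag q I K) (op (op n))).hom (psi J q e _ z), ?_⟩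
    refine (ConcreteCategory.congr_hom (colimit.ι_desc (hdCocone J q e I) (op (op n))) (psi J q e _ z)).trans ?_
    show (ULift.moduleEquiv (R := A) (M := ((gammaCx I).obj J).homology q)).symm (leg J q e I n (psi J q e _ z)) = _
    rw [leg_psi]
    refine congrArg ULift.up (congrArg (LocCohLib.scCls _) (Subtype.ext (Subtype.ext ?_)))
    show (1 : A) • v = v
    rw [one_smul]

theorem nonempty_HD_equiv (K : Dual.D A) [DRing.HasRgammaI I] :
    Nonempty (Dual.HD A ((DRing.RgammaI I).obj K) q ≃ₗ[A] Dual2.HDI A I K q) := by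
  obtain ⟨J, hJ, -, e, a, -⟩ := exists_model I K
  exact ⟨((DerivedCategory.homologyFunctor (ModuleCat.{u} A) q).mapIso a.symm ≪≫
      (DerivedCategory.homologyFunctorFactors (ModuleCat.{u} A) q).app _).toLinearEquiv ≪≫ₗ
    (ULift.moduleEquiv (R := A) (M := ((gammaCx I).obj J).homology q)).symm ≪≫ₗ
    (LinearEquiv.ofBijective (colimit.desc _ (hdCocone J q e I)).hom (hd_bijective J q e I)).symm⟩

end Groth.Agent.RGamma
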