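import Groth.Agent.RGamma.Transfer
import Groth.Agent.KFlat.LBase
import Groth.Agent.DRingPC.BaseChange

/-!
# Derived torsion and derived base change
-/

set_option autoImplicit false
set_option linter.style.haveILetI false

open CategoryTheory CategoryTheory.Limits CategoryTheory.Pretriangulated

universe u

attribute [local instance] HasDerivedCategory.standard

namespace Groth.Agent.RGamma

open DComplete RHomCx

variable {A B : Type u} [CommRing A] [CommRing B]

/-- An object without morphisms to objects on which `f` is invertible is `f`-power torsion. -/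
theorem torsD_of_subsingleton (f : A) (T : Dual.D A)
    (h : ∀ Y : Dual.D A, IsIso (f • 𝟙 Y) → Subsingleton (T ⟶ Y)) : TorsD f T := by
  obtain ⟨P, ⟨e⟩⟩ : ∃ P : DRing.Cx A, Nonempty (DerivedCategory.Q.obj P ≅ T) :=
    ⟨_, ⟨(DerivedCategory.Q (C := ModuleCat.{u} A)).objObjPreimageIso T⟩⟩
  refine TorsD.of_iso ((torsD_Q_iff f P).2 ?_) e
  let u₀ := DerCA.locCxUnit (Submonoid.powers f) P
  haveI := h _ (isIso_smul_Q_loc f P)
  have h0 : DerivedCategory.Q.map u₀ = 0 := (cancel_epi e.inv).1 (Subsingleton.elim _ _)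
  refine (tors_iff f P).2 fun n =>
    (HomologicalComplex.exactAt_iff_isZero_homology _ n).2 ((IsZero.iff_id_eq_zero _).2 ?_)
  have hH : HomologicalComplex.homologyMap u₀ n = 0 := by
    refine (cancel_epi ((DerivedCategory.homologyFunctorFactors (ModuleCat.{u} A) n).hom.app P)).1 ?_
    refine (((DerivedCategory.homologyFunctorFactors (ModuleCat.{u} A) n).hom.naturality u₀).symm.trans ?_).trans
      comp_zero.symm
    rw [Functor.comp_map, h0, Functor.map_zero]
    exact zero_comp
  let L := DerCA.locFunctor.{u} (R := A) (Submonoid.powers f)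
  let m := HomologicalComplex.homologyMap ((L.mapHomologicalComplex (ComplexShape.up ℤ)).map u₀) n
  haveI : ∀ i, IsIso (((L.mapHomologicalComplex (ComplexShape.up ℤ)).map u₀).f i) := fun i =>
    isIso_loc_map_unit f (P.X i)
  haveI : IsIso ((L.mapHomologicalComplex (ComplexShape.up ℤ)).map u₀) :=
    HomologicalComplex.Hom.isIso_of_components _
  haveI : IsIso m := inferInstanceAs (IsIso (HomologicalComplex.homologyMap _ n))
  have hm : m = 0 := by
    refine (cancel_mono ((((DerCA.locCx (Submonoid.powers f)).obj P).sc n).mapHomologyIso L).hom).1 ?_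
    refine Eq.trans ?_ zero_comp.symm
    refine (ShortComplex.mapHomologyIso_hom_naturality
      ((HomologicalComplex.shortComplexFunctor (ModuleCat.{u} A) (ComplexShape.up ℤ) n).map u₀) L).trans ?_
    show _ ≫ L.map (HomologicalComplex.homologyMap u₀ n) = 0
    rw [hH, Functor.map_zero, comp_zero]
  exact (IsIso.hom_inv_id m).symm.trans ((congrArg (fun x => x ≫ inv m) hm).trans zero_comp)

variable (φ : A →+* B)

theorem restrictD_map_smul (s : A) (Y : Dual.D B) :
    (DRing.restrictD φ).map (φ s • 𝟙 Y) = s • 𝟙 ((DRing.restrictD φ).obj Y) := by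
  obtain ⟨P, ⟨e⟩⟩ : ∃ P : DRing.Cx B, Nonempty (DerivedCategory.Q.obj P ≅ Y) :=
    ⟨_, ⟨(DerivedCategory.Q (C := ModuleCat.{u} B)).objObjPreimageIso Y⟩⟩
  let E := ModuleCat.restrictScalars.{u} φ
  have hY : φ s • 𝟙 Y = e.inv ≫ DerivedCategory.Q.map (φ s • 𝟙 P) ≫ e.hom := by
    rw [Functor.map_smul, CategoryTheory.Functor.map_id, Linear.smul_comp, Category.id_comp, Linear.comp_smul,
      e.inv_hom_id]
  have hmap : (E.mapHomologicalComplex (ComplexShape.up ℤ)).map (φ s • 𝟙 P) = s • 𝟙 _ :=
    HomologicalComplex.hom_ext _ _ fun n => ModuleCat.hom_ext (LinearMap.ext fun _ => rfl)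
  let fac := E.mapDerivedCategoryFactors
  have hQ : E.mapDerivedCategory.map (DerivedCategory.Q.map (φ s • 𝟙 P)) =
      s • 𝟙 (E.mapDerivedCategory.obj (DerivedCategory.Q.obj P)) := by
    refine (cancel_mono (fac.hom.app P)).1 ((fac.hom.naturality (φ s • 𝟙 P)).trans ?_)
    show fac.hom.app P ≫ DerivedCategory.Q.map _ = _
    rw [hmap, Functor.map_smul, CategoryTheory.Functor.map_id, Linear.comp_smul]
    exact (congrArg (s • ·) ((Category.comp_id (fac.hom.app P)).trans (Category.id_comp (fac.hom.app P)).symm)).trans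
      (Linear.smul_comp _ _ _ s (𝟙 _) (fac.hom.app P)).symm
  show E.mapDerivedCategory.map (φ s • 𝟙 Y) = s • 𝟙 (E.mapDerivedCategory.obj Y)
  rw [hY, Functor.map_comp, Functor.map_comp, hQ, Linear.smul_comp, Category.id_comp, Linear.comp_smul,
    ← Functor.map_comp, e.inv_hom_id, CategoryTheory.Functor.map_id]

variable {φ} {F : Dual.D A ⥤ Dual.D B} (adj : F ⊣ DRing.restrictD φ)

include adj

theorem torsD_leftAdjoint {f : A} {X : Dual.D A} (h : TorsD f X) : TorsD (φ f) (F.obj X) :=
  torsD_of_subsingleton _ _ fun Y hY => by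
    haveI := hY
    haveI := isIso_smul_restrictD φ f Y
    haveI := subsingleton_of_torsD h (Y := (DRing.restrictD φ).obj Y)
    exact (adj.homEquiv X Y).subsingleton

theorem isIso_smul_leftAdjoint (b : A) (X : Dual.D A) [IsIso (b • 𝟙 X)] : IsIso (φ b • 𝟙 (F.obj X)) := by
  have hb : ∀ Y : Dual.D B, Function.Bijective fun α : F.obj X ⟶ Y => (φ b • 𝟙 (F.obj X)) ≫ α := fun Y => by
    refine bij_congr (((adj.homEquiv X Y).symm.bijective.comp
      (bij_iso (b • 𝟙 X) (E := (DRing.restrictD φ).obj Y))).comp (adj.homEquiv X Y).bijective) fun α => ?_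
    refine (Equiv.symm_apply_eq _).2 ?_
    simp only [Function.comp_apply]
    have h1 : (φ b • 𝟙 (F.obj X)) ≫ α = α ≫ (φ b • 𝟙 Y) := by
      rw [Linear.smul_comp, Linear.comp_smul, Category.id_comp, Category.comp_id]
    rw [h1, Adjunction.homEquiv_naturality_right, restrictD_map_smul, Linear.comp_smul, Linear.smul_comp,
      Category.id_comp, Category.comp_id]
  obtain ⟨g, hg⟩ := (hb _).2 (𝟙 _)
  simp only at hg
  exact ⟨g, hg, (hb _).1 (by simp only; rw [← Category.assoc, hg, Category.id_comp, Category.comp_id])⟩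

omit adj

theorem torsD_map [IsNoetherianRing B] (I : Ideal A) {T : Dual.D B} (h : ∀ b ∈ I, TorsD (φ b) T) :
    ∀ s ∈ I.map φ, TorsD s T := fun s hs => by
  refine torsD_of_forall (I := I.map φ) (fun n => (isPowerTorsion_iff (s := φ '' I) rfl
    (IsNoetherian.noetherian _) _).2 ?_) hs
  rintro _ ⟨b, hb, rfl⟩ x
  exact h b hb n x

theorem nonempty_LBaseChange_RgammaI [IsNoetherianRing A] [IsNoetherianRing B] [DRing.HasLBaseChange φ]
    (I : Ideal A) [DRing.HasRgammaI I] [DRing.HasRgammaI (I.map φ)] (K : Dual.D A) :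
    Nonempty ((DRing.RgammaI (I.map φ)).obj ((DRing.LBaseChange φ).obj K) ≅
      (DRing.LBaseChange φ).obj ((DRing.RgammaI I).obj K)) := by
  let adj := KFlat.LBase.adjLBC φ
  letI := adj.leftAdjointCommShift ℤ
  haveI : adj.CommShift ℤ := adj.commShift_of_rightAdjoint ℤ
  haveI : (DRing.LBaseChange φ).IsTriangulated := adj.isTriangulated_leftAdjoint
  obtain ⟨l, hl⟩ := exists_list I
  exact nonempty_transfer (DRing.LBaseChange φ) I (I.map φ) l hl
    (fun b hb => ⟨φ b, Ideal.mem_map_of_mem φ (mem_of_list I hl hb), fun X _ => isIso_smul_leftAdjoint adj b X⟩) K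
    (torsD_map I fun b hb => torsD_leftAdjoint adj (torsD_obj I hb K))

theorem nonempty_LBaseChange_self [DRing.HasLBaseChange φ] :
    Nonempty ((DRing.LBaseChange φ).obj (Dual.inD A A) ≅ Dual.inD B B) := by
  let sgl : DRing.Cx A := (HomologicalComplex.single _ (ComplexShape.up ℤ) 0).obj (ModuleCat.of A A)
  haveI : ∀ i, Projective (sgl.X i) := fun i => by
    by_cases h : i = 0
    · subst h
      exact Projective.of_iso (HomologicalComplex.singleObjXSelf (ComplexShape.up ℤ) 0 (ModuleCat.of A A)).symm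
        ((IsProjective.iff_projective (ModuleCat.of A A)).1 inferInstance)
    · exact (HomologicalComplex.isZero_single_obj_X (ComplexShape.up ℤ) 0 _ i h).projective
  haveI : sgl.IsKProjective := CochainComplex.isKProjective_of_projective sgl 0
  letI := φ.toAlgebra
  exact ⟨(DRing.LBaseChange φ).mapIso (PCohLib.singleQIso 0 (ModuleCat.of A A)).symm ≪≫
    LBC.valueIso φ sgl ≪≫ DRingPC.extendSingle φ _ ≪≫
    (DerivedCategory.singleFunctor _ 0).mapIso
      (TensorProduct.AlgebraTensorModule.rid A B B).toModuleIso⟩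

theorem nonempty_RgammaI_congr_radical [IsNoetherianRing A] {I J : Ideal A} [DRing.HasRgammaI I]
    [DRing.HasRgammaI J] (hJI : J ≤ I) (hIJ : ∀ s ∈ I, ∃ n, 0 < n ∧ s ^ n ∈ J) (K : Dual.D A) :
    Nonempty ((DRing.RgammaI J).obj K ≅ (DRing.RgammaI I).obj K) := by
  have hto : ∀ T : Dual.D A, (∀ s ∈ J, TorsD s T) → ∀ s ∈ I, TorsD s T := fun T h s hs n x => by
    obtain ⟨m, -, hm⟩ := hIJ s hs
    obtain ⟨k, hk⟩ := h _ hm n x
    exact ⟨m * k, by rw [pow_mul]; exact hk⟩
  exact nonempty_iso_of_bijective (fun T : Dual.D A => ∀ s ∈ I, TorsD s T)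
    ((DRing.RgammaIε J).app K) ((DRing.RgammaIε I).app K)
    (hto _ fun s hs => torsD_obj J hs K) (fun s hs => torsD_obj I hs K)
    (fun T h => bijective_ε J K T fun s hs => h s (hJI hs)) (fun T h => bijective_ε I K T h)

end Groth.Agent.RGamma
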