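import Groth.Agent.RHomCx.Cech
import Groth.Agent.LocCohLib.CechCompare
import Groth.Agent.LocCohLib.Torsion
import Groth.Agent.TriH.DerivedKInj

/-!
# Derived torsion and its universal property
-/

set_option autoImplicit false
set_option linter.style.haveILetI false

open CategoryTheory CategoryTheory.Limits CategoryTheory.Pretriangulated

universe u

attribute [local instance] HasDerivedCategory.standard

namespace Groth.Agent.RGamma

open DComplete RHomCx
open LocCohLib (preservesHomology_locFunctor)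

variable {A : Type u} [CommRing A]

local notation "φ_ " f:max => algebraMap A (Localization.Away f)

/-- Every cohomology class of an object is killed by a power of `f`. -/
def TorsD (f : A) (T : Dual.D A) : Prop :=
  ∀ (n : ℤ) (x : Dual.HD A T n), ∃ k : ℕ, f ^ k • x = 0

theorem tors_of_linearEquiv {f : A} {M N : Type*} [AddCommGroup M] [Module A M] [AddCommGroup N] [Module A N]
    (e : M ≃ₗ[A] N) (h : ∀ x : M, ∃ k : ℕ, f ^ k • x = 0) (y : N) : ∃ k : ℕ, f ^ k • y = 0 := by
  obtain ⟨k, hk⟩ := h (e.symm y)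
  exact ⟨k, e.symm.injective (by rw [map_smul, hk, map_zero])⟩

theorem torsD_Q_iff (f : A) (P : DRing.Cx A) : TorsD f (DerivedCategory.Q.obj P) ↔ Tors f P :=
  ⟨fun h n => tors_of_linearEquiv ((DerivedCategory.homologyFunctorFactors (ModuleCat.{u} A) n).app P).toLinearEquiv (h n),
    fun h n => tors_of_linearEquiv ((DerivedCategory.homologyFunctorFactors (ModuleCat.{u} A) n).app P).symm.toLinearEquiv (h n)⟩

theorem TorsD.of_iso {f : A} {T T' : Dual.D A} (h : TorsD f T) (e : T ≅ T') : TorsD f T' := fun n =>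
  tors_of_linearEquiv ((DerivedCategory.homologyFunctor (ModuleCat.{u} A) n).mapIso e).toLinearEquiv (h n)

theorem isPowerTorsion_iff {I : Ideal A} {s : Set A} (hs : Ideal.span s = I) (hI : I.FG) (M : Type u)
    [AddCommGroup M] [Module A M] :
    LocCoh.IsPowerTorsion I M ↔ ∀ f ∈ s, ∀ x : M, ∃ k : ℕ, f ^ k • x = 0 := by
  refine ⟨fun h f hf x => ?_, fun h x => ?_⟩
  · obtain ⟨n, hn⟩ := h x
    exact ⟨n, hn _ (Ideal.pow_mem_pow (hs ▸ Ideal.subset_span hf) n)⟩
  · have hle : I ≤ (Submodule.span A {x}).annihilator.radical := by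
      rw [← hs, Ideal.span_le]
      intro f hf
      obtain ⟨k, hk⟩ := h f hf x
      exact ⟨k, (Submodule.mem_annihilator_span_singleton _ _).2 hk⟩
    obtain ⟨n, hn⟩ := Ideal.exists_pow_le_of_le_radical_of_fg hle hI
    exact ⟨n, fun a ha => (Submodule.mem_annihilator_span_singleton _ _).1 (hn ha)⟩

theorem exists_restrict_of_isIso_smul (f : A) (Y : Dual.D A) [IsIso (f • 𝟙 Y)] :
    ∃ E : Dual.D (Localization.Away f), Nonempty ((DRing.restrictD (φ_ f)).obj E ≅ Y) := by
  obtain ⟨C, η, hC, -, -, R, adj, δ, hT⟩ := exists_step f Y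
  let T := Triangle.mk (adj.counit.app Y) η δ
  let φ : T ⟶ T :=
    { hom₁ := f • 𝟙 _, hom₂ := f • 𝟙 _, hom₃ := f • 𝟙 _
      comm₁ := by simp [T]
      comm₂ := by simp [T]
      comm₃ := by simp [T] }
  haveI : IsIso (f • 𝟙 C) :=
    (show IsIso φ.hom₃ from isIso₃_of_isIso₁₂ φ hT hT (isIso_smul_restrict f _) (show IsIso (f • 𝟙 Y) by assumption))
  haveI : IsIso (adj.counit.app Y) :=
    (Triangle.isZero₃_iff_isIso₁ T hT).1 (@isZero_of_isC _ _ f C hC this)
  exact ⟨_, ⟨asIso (adj.counit.app Y)⟩⟩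

theorem isZero_extD {f : A} {T : Dual.D A} (h : TorsD f T) : IsZero ((extD f).obj T) := by
  obtain ⟨P, ⟨e⟩⟩ : ∃ P : DRing.Cx A, Nonempty (DerivedCategory.Q.obj P ≅ T) :=
    ⟨_, ⟨(DerivedCategory.Q (C := ModuleCat.{u} A)).objObjPreimageIso T⟩⟩
  have hP := (torsD_Q_iff f P).1 (h.of_iso e.symm)
  let F := ModuleCat.extendScalars.{u, u, u} (φ_ f)
  have hz : ∀ n, IsZero (F.obj (P.homology n)) := fun n => by
    let N := (ModuleCat.restrictScalars.{u} (φ_ f)).obj (ModuleCat.of _ (Localization.Away f))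
    suffices hh : ∀ z : TensorProduct A N (P.homology n), z = 0 by
      exact @ModuleCat.isZero_of_subsingleton _ _ _
        (show Subsingleton (TensorProduct A N (P.homology n)) from subsingleton_of_forall_eq 0 hh)
    intro z
    induction z using TensorProduct.induction_on with
    | zero => rfl
    | add a b ha hb => rw [ha, hb, add_zero]
    | tmul z x =>
      obtain ⟨k, hk⟩ := hP n x
      obtain ⟨w, hw⟩ : ∃ w : N, f ^ k • w = z := by
        have hd : ∀ b : Localization.Away f, ((φ_ f) f) ^ k ∣ b := fun b =>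
          ((IsLocalization.Away.algebraMap_isUnit (S := Localization.Away f) f).pow k).dvd
        obtain ⟨w, hw⟩ := hd z
        exact ⟨w, Eq.trans (show (φ_ f) (f ^ k) * w = _ from by rw [map_pow]) hw.symm⟩
      rw [← hw, TensorProduct.smul_tmul, hk, TensorProduct.tmul_zero]
  have hac : ((F.mapHomologicalComplex (ComplexShape.up ℤ)).obj P).Acyclic := fun n =>
    (HomologicalComplex.exactAt_iff_isZero_homology _ n).2 ((hz n).of_iso ((P.sc n).mapHomologyIso F))
  refine IsZero.of_iso ?_ ((extD f).mapIso e.symm ≪≫ F.mapDerivedCategoryFactors.app P)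
  exact DComplete.isZero_of_forall_isZero _ fun n =>
    ((HomologicalComplex.exactAt_iff_isZero_homology _ n).1 (hac n)).of_iso
      ((DerivedCategory.homologyFunctorFactors (ModuleCat.{u} (Localization.Away f)) n).app _)

theorem subsingleton_of_torsD {f : A} {T Y : Dual.D A} (h : TorsD f T) [IsIso (f • 𝟙 Y)] :
    Subsingleton (T ⟶ Y) := by
  obtain ⟨E, ⟨e⟩⟩ := exists_restrict_of_isIso_smul f Y
  refine ((Iso.refl T).homCongr e).subsingleton_congr.1 (((extAdj f).homEquiv T E).subsingleton_congr.1 ?_)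
  exact ⟨fun a b => (isZero_extD h).eq_of_src a b⟩

theorem isIso_smul_shift {f : A} {Y : Dual.D A} [IsIso (f • 𝟙 Y)] (n : ℤ) : IsIso (f • 𝟙 (Y⟦n⟧)) := by
  rw [← CategoryTheory.Functor.map_id, ← Functor.map_smul]
  infer_instance

theorem isIso_smul_Q_loc (b : A) (X : DRing.Cx A) :
    IsIso (b • 𝟙 (DerivedCategory.Q.obj ((DerCA.locCx (Submonoid.powers b)).obj X))) := by
  haveI : ∀ n, IsIso ((b • 𝟙 ((DerCA.locCx (Submonoid.powers b)).obj X)).f n) := fun n =>
    (ConcreteCategory.isIso_iff_bijective _).2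
      ((Module.End.isUnit_iff _).1 (IsLocalizedModule.map_units (S := Submonoid.powers b)
        (LocalizedModule.mkLinearMap (Submonoid.powers b) (X.X n))
        (⟨b, Submonoid.mem_powers b⟩ : Submonoid.powers b)))
  haveI : IsIso (b • 𝟙 ((DerCA.locCx (Submonoid.powers b)).obj X)) := HomologicalComplex.Hom.isIso_of_components _
  rw [← CategoryTheory.Functor.map_id, ← Functor.map_smul]
  infer_instance

/-- Postcomposition along a triangle whose third object has `f` invertible. -/
theorem bijective_comp_left {f : A} {X Y Z : Dual.D A} {u : X ⟶ Y} {v : Y ⟶ Z} {w : Z ⟶ X⟦(1 : ℤ)⟧}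
    (hT : Triangle.mk u v w ∈ distinguishedTriangles) [IsIso (f • 𝟙 Z)] {T : Dual.D A} (h : TorsD f T) :
    Function.Bijective fun α : T ⟶ X => α ≫ u := by
  haveI := isIso_smul_shift (f := f) (Y := Z) (-1)
  refine ⟨fun a b hab => sub_eq_zero.1 ?_, fun b => ?_⟩
  · obtain ⟨c, hc⟩ := Triangle.coyoneda_exact₂ _ (inv_rot_of_distTriang _ hT) (a - b) (by
      exact (Preadditive.sub_comp _ _ _).trans (sub_eq_zero.2 hab))
    exact hc.trans ((congrArg (· ≫ _) ((subsingleton_of_torsD h (Y := Z⟦(-1 : ℤ)⟧)).elim c 0)).trans zero_comp)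
  · obtain ⟨a, ha⟩ := Triangle.coyoneda_exact₂ _ hT b ((subsingleton_of_torsD h (Y := Z)).elim _ _)
    exact ⟨a, ha.symm⟩

/-- Termwise torsion of a complex. -/
noncomputable abbrev gammaCx (I : Ideal A) : DRing.Cx A ⥤ DRing.Cx A :=
  (DRing.gammaI I).mapHomologicalComplex (ComplexShape.up ℤ)

/-- The inclusion of the torsion subcomplex. -/
noncomputable def gammaInc (I : Ideal A) (J : DRing.Cx A) : (gammaCx I).obj J ⟶ J where
  f i := (DRing.gammaIι I).app (J.X i)
  comm' i j _ := rfl

theorem tors_gammaCx {I : Ideal A} {f : A} (hf : f ∈ I) (J : DRing.Cx A) : Tors f ((gammaCx I).obj J) := by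
  intro n x
  obtain ⟨z, rfl⟩ := LocCohLib.scCls_surjective (((gammaCx I).obj J).sc n) x
  obtain ⟨⟨v, k, hk⟩, hz⟩ := z
  refine ⟨k, ?_⟩
  refine ((map_smul (LocCohLib.scCls (((gammaCx I).obj J).sc n)) (f ^ k) _).symm.trans
    (congrArg _ (Subtype.ext (Subtype.ext ?_)))).trans (map_zero (LocCohLib.scCls (((gammaCx I).obj J).sc n)))
  exact hk _ (Ideal.pow_mem_pow hf k)

/-- `Γ_{a+(b)} J → Γ_a J → (Γ_a J)_b`. -/
noncomputable def gShort [IsNoetherianRing A] (a : Ideal A) (b : A) (J : DRing.Cx A) : ShortComplex (DRing.Cx A) :=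
  ShortComplex.mk
    ((NatTrans.mapHomologicalComplex (LocCohLib.gammaIncl (le_sup_left : a ≤ a ⊔ Ideal.span {b}))
      (ComplexShape.up ℤ)).app J)
    (DerCA.locCxUnit (Submonoid.powers b) ((gammaCx a).obj J)) (by
      refine HomologicalComplex.hom_ext _ _ fun n => ModuleCat.hom_ext (LinearMap.ext fun x => ?_)
      obtain ⟨k, hk⟩ := ((LocCohLib.mem_torsionSub_sup _).1
        (x : DRing.torsionSub (a ⊔ Ideal.span {b}) (J.X n)).2).2
      refine (IsLocalizedModule.eq_zero_iff (Submonoid.powers b)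
        (LocalizedModule.mkLinearMap (Submonoid.powers b) _)).2 ⟨⟨b ^ k, k, rfl⟩, Subtype.ext ?_⟩
      exact hk _ (Ideal.pow_mem_pow (Ideal.mem_span_singleton_self b) k))

theorem gShort_shortExact [IsNoetherianRing A] (a : Ideal A) (b : A) (J : DRing.Cx A)
    [∀ n, Injective (J.X n)] : (gShort a b J).ShortExact := by
  refine HomologicalComplex.shortExact_of_degreewise_shortExact _ fun n => ?_
  haveI : Injective (ModuleCat.of A (J.X n)) := (inferInstance : Injective (J.X n))
  haveI : Module.Injective A (J.X n) := Module.injective_module_of_injective_object A _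
  haveI : Module.Injective A (DRing.torsionSub a (J.X n)) := LocCohLib.injective_torsionSub (J.X n) a
  exact
    { exact := (ShortComplex.ShortExact.moduleCat_exact_iff_function_exact _).2
        fun (x : DRing.torsionSub a (J.X n)) => ⟨fun h => by
          obtain ⟨⟨_, k, rfl⟩, hk⟩ := (IsLocalizedModule.eq_zero_iff (Submonoid.powers b)
            (LocalizedModule.mkLinearMap (Submonoid.powers b) (DRing.torsionSub a (J.X n)))).1 h
          refine ⟨(⟨x.1, (LocCohLib.mem_torsionSub_sup _).2 ⟨x.2, k, fun r hr => ?_⟩⟩ :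
              DRing.torsionSub (a ⊔ Ideal.span {b}) (J.X n)), Subtype.ext rfl⟩
          rw [Ideal.span_singleton_pow, Ideal.mem_span_singleton] at hr
          obtain ⟨c, rfl⟩ := hr
          rw [mul_comm, mul_smul, show b ^ k • x.1 = 0 from congrArg Subtype.val hk, smul_zero], by
          rintro ⟨y, rfl⟩
          exact ConcreteCategory.congr_hom
            (HomologicalComplex.congr_hom (gShort a b J).zero n) y⟩
      mono_f := (ModuleCat.mono_iff_injective _).2 fun x y h =>
        Subtype.ext (congrArg (fun q : DRing.torsionSub a (J.X n) => q.1) h)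
      epi_g := (ModuleCat.epi_iff_surjective _).2
        fun (y : LocalizedModule (Submonoid.powers b) (DRing.torsionSub a (J.X n))) => by
          obtain ⟨j, -, hj⟩ := LocCohLib.exists_lift (A := A) (J := DRing.torsionSub a (J.X n)) ⊥
            (Submonoid.powers b) y (fun r hr => by rw [Ideal.mem_bot.1 hr, zero_smul])
          exact ⟨j, hj⟩ }

theorem tors_X₁ {f : A} {S : ShortComplex (DRing.Cx A)} (hS : S.ShortExact) (h2 : Tors f S.X₂)
    (h3 : Tors f S.X₃) : Tors f S.X₁ := by
  intro n x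
  obtain ⟨k, hk⟩ := h2 n (HomologicalComplex.homologyMap S.f n x)
  have he := (ShortComplex.ShortExact.moduleCat_exact_iff_function_exact _).1
    (hS.homology_exact₁ (n - 1) n (by simp))
  obtain ⟨y, hy⟩ := (he (f ^ k • x)).1 (by
    exact ((HomologicalComplex.homologyMap S.f n).hom.map_smul _ _).trans hk)
  obtain ⟨j, hj⟩ := h3 (n - 1) y
  refine ⟨j + k, ?_⟩
  rw [pow_add, mul_smul, ← hy]
  exact ((hS.δ (n - 1) n (by simp)).hom.map_smul _ _).symm.trans
    ((congrArg _ hj).trans (map_zero (hS.δ (n - 1) n (by simp)).hom))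

/-- The universal properties of the torsion subcomplex of a complex of injective modules. -/
theorem gamma_props [IsNoetherianRing A] (J : DRing.Cx A) [∀ n, Injective (J.X n)] : ∀ (l : List A),
    (∀ T : Dual.D A, (∀ f ∈ l, TorsD f T) → Function.Bijective fun α : T ⟶ _ =>
        α ≫ DerivedCategory.Q.map (gammaInc (Ideal.span {x | x ∈ l}) J)) ∧
    (∀ E : Dual.D A, (∀ f ∈ l, IsC f E) → Function.Bijective fun α : _ ⟶ E =>
        DerivedCategory.Q.map (gammaInc (Ideal.span {x | x ∈ l}) J) ≫ α) ∧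
    ∀ f : A, Tors f J → Tors f ((gammaCx (Ideal.span {x | x ∈ l})).obj J) := by
  intro l
  induction l with
  | nil =>
    have hset : {x : A | x ∈ ([] : List A)} = ∅ := Set.eq_empty_iff_forall_notMem.2 fun x hx => List.not_mem_nil hx
    rw [hset, Ideal.span_empty]
    haveI : ∀ n, IsIso ((gammaInc (⊥ : Ideal A) J).f n) := fun n =>
      (ConcreteCategory.isIso_iff_bijective _).2 ⟨fun x y h => Subtype.ext h, fun x =>
        ⟨⟨x, 1, fun c hc => by
          rw [pow_one, Ideal.mem_bot] at hc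
          rw [hc, zero_smul]⟩, rfl⟩⟩
    haveI : IsIso (gammaInc (⊥ : Ideal A) J) := HomologicalComplex.Hom.isIso_of_components _
    refine ⟨fun T _ => ⟨fun a b h => (cancel_mono _).1 h, fun b => ⟨b ≫ inv (DerivedCategory.Q.map (gammaInc (⊥ : Ideal A) J)), (Category.assoc _ _ _).trans ((congrArg (b ≫ ·) (IsIso.inv_hom_id _)).trans (Category.comp_id b))⟩⟩,
      fun E _ => bij_iso _, fun f hf n => ?_⟩
    exact tors_of_linearEquiv ((HomologicalComplex.homologyFunctor (ModuleCat.{u} A) (ComplexShape.up ℤ) n).mapIso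
      (asIso (gammaInc (⊥ : Ideal A) J))).symm.toLinearEquiv (hf n)
  | cons b l ih =>
    obtain ⟨ih1, ih2, ih3⟩ := ih
    have hset : Ideal.span {x : A | x ∈ b :: l} = Ideal.span {x | x ∈ l} ⊔ Ideal.span {b} := by
      rw [← Ideal.span_union]
      congr 1
      ext x
      simp [or_comm]
    rw [hset]
    let a : Ideal A := Ideal.span {x | x ∈ l}
    let S := gShort a b J
    have hS : S.ShortExact := gShort_shortExact a b J
    haveI : IsIso (b • 𝟙 (DerivedCategory.Q.obj S.X₃)) := isIso_smul_Q_loc b ((gammaCx a).obj J)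
    have hT : Triangle.mk (DerivedCategory.Q.map S.f) (DerivedCategory.Q.map S.g)
        (DerivedCategory.triangleOfSES hS).mor₃ ∈ distinguishedTriangles :=
      DerivedCategory.triangleOfSES_distinguished hS
    have hι : DerivedCategory.Q.map (gammaInc (a ⊔ Ideal.span {b}) J) =
        DerivedCategory.Q.map S.f ≫ DerivedCategory.Q.map (X := (gammaCx a).obj J) (gammaInc a J) :=
      (congrArg DerivedCategory.Q.map (show gammaInc (a ⊔ Ideal.span {b}) J = S.f ≫ gammaInc a J from
        HomologicalComplex.hom_ext _ _ fun _ => rfl)).trans (DerivedCategory.Q.map_comp _ _)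
    refine ⟨fun T hT' => ?_, fun E hE => ?_, fun f hf => ?_⟩
    · have h1 := ih1 T fun f hf => hT' f (List.mem_cons_of_mem _ hf)
      have h2 := bijective_comp_left hT (hT' b List.mem_cons_self)
      exact bij_congr (h1.comp h2) fun α => by rw [hι]; exact (Category.assoc _ _ _)
    · have h1 := ih2 E fun f hf => hE f (List.mem_cons_of_mem _ hf)
      have h2 := bijective_of_shortExact hS (hE b List.mem_cons_self)
      exact bij_congr (h2.comp h1) fun α => by rw [hι]; exact (Category.assoc _ _ _).symm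
    · exact tors_X₁ hS (ih3 f hf) ((ih3 f hf).loc b)

variable (I : Ideal A) [DRing.HasRgammaI I]

/-- The unit of `RΓ_I`. -/
noncomputable abbrev unit : DRing.gammaIKh I ⟶ DerivedCategory.Qh ⋙ DRing.RgammaI I :=
  (DRing.gammaIKh I).totalRightDerivedUnit DerivedCategory.Qh
    (HomotopyCategory.quasiIso (ModuleCat.{u} A) (ComplexShape.up ℤ))

/-- `RΓ_I` of a K-injective complex. -/
theorem exists_iso (J : DRing.Cx A) [J.IsKInjective] :
    ∃ a : DerivedCategory.Q.obj ((gammaCx I).obj J) ≅ (DRing.RgammaI I).obj (DerivedCategory.Q.obj J),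
      a.hom ≫ (DRing.RgammaIε I).app (DerivedCategory.Q.obj J) = DerivedCategory.Q.map (gammaInc I J) := by
  let X := (HomotopyCategory.quotient (ModuleCat.{u} A) (ComplexShape.up ℤ)).obj J
  haveI := TriH.hasPointwiseRightDerivedFunctor_of_bijective (L := DerivedCategory.Qh)
    (W := HomotopyCategory.quasiIso (ModuleCat.{u} A) (ComplexShape.up ℤ))
    (TriH.exists_kInjective_homotopy RHomCx.exists_res) (DRing.gammaIKh I)
  haveI : IsIso ((unit I).app X) := TriH.isIso_unit_of_bijective
    (W := HomotopyCategory.quasiIso (ModuleCat.{u} A) (ComplexShape.up ℤ)) (DRing.gammaIKh I)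
    (DRing.RgammaI I) (unit I) X fun Y => TriH.Qh_bijective_of_isKInjective J Y
  let q := DerivedCategory.quotientCompQhIso (ModuleCat.{u} A)
  let φ := ((DRing.gammaI I).mapHomotopyCategoryFactors (ComplexShape.up ℤ)).app J
  refine ⟨(q.app _).symm ≪≫ DerivedCategory.Qh.mapIso φ.symm ≪≫ asIso ((unit I).app X) ≪≫
    (DRing.RgammaI I).mapIso (q.app J), ?_⟩
  have hfac : (unit I).app X ≫ (DRing.RgammaIε I).app (DerivedCategory.Qh.obj X) = (DRing.gammaIτ I).app X := by
    refine ((DRing.RgammaI I).rightDerived_fac_app (unit I)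
      (HomotopyCategory.quasiIso (ModuleCat.{u} A) (ComplexShape.up ℤ)) (𝟭 (Dual.D A))
      (DRing.gammaIτ I ≫ (Functor.rightUnitor _).inv) X).trans ?_
    simp
  have hτ : (DRing.gammaIτ I).app X = DerivedCategory.Qh.map φ.hom ≫
      DerivedCategory.Qh.map ((HomotopyCategory.quotient (ModuleCat.{u} A) (ComplexShape.up ℤ)).map (gammaInc I J)) := by
    show (DRing.gammaIτ0 I).app J = _
    have h : (NatTrans.mapHomologicalComplex (DRing.gammaIι I) (ComplexShape.up ℤ)).app J ≫
        (Functor.mapHomologicalComplexIdIso (ModuleCat.{u} A) (ComplexShape.up ℤ)).hom.app J = gammaInc I J := by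
      ext n : 1
      simp [gammaInc]
      try rfl
    rw [← h]
    simp [DRing.gammaIτ0, φ]
    try rfl
  simp only [Iso.trans_hom, Iso.symm_hom, Iso.app_inv, Functor.mapIso_hom, asIso_hom, Category.assoc,
    Iso.app_hom]
  rw [(DRing.RgammaIε I).naturality, reassoc_of% hfac, hτ]
  simp only [Functor.id_map, Category.assoc]
  rw [← DerivedCategory.Qh.map_comp_assoc φ.inv, φ.inv_hom_id, CategoryTheory.Functor.map_id, Category.id_comp,
    DerivedCategory.quotientCompQhIso_hom_naturality]
  exact Iso.inv_hom_id_app_assoc q _ _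

theorem exists_model (K : Dual.D A) : ∃ (J : DRing.Cx A), J.IsKInjective ∧ (∀ n, Injective (J.X n)) ∧
    ∃ (e : DerivedCategory.Q.obj J ≅ K)
      (a : DerivedCategory.Q.obj ((gammaCx I).obj J) ≅ (DRing.RgammaI I).obj K),
      a.hom ≫ (DRing.RgammaIε I).app K = DerivedCategory.Q.map (gammaInc I J) ≫ e.hom := by
  obtain ⟨J, s, hJ, hs, -, hinj⟩ :=
    TriH.exists_kInjective_resolution ((DerivedCategory.Q (C := ModuleCat.{u} A)).objPreimage K)
  haveI : IsIso (DerivedCategory.Q.map s) := (DerivedCategory.isIso_Q_map_iff_quasiIso _ _).2 hs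
  let e : DerivedCategory.Q.obj J ≅ K :=
    (asIso (DerivedCategory.Q.map s)).symm ≪≫ DerivedCategory.Q.objObjPreimageIso K
  obtain ⟨a, ha⟩ := exists_iso I J
  refine ⟨J, hJ, hinj, e, a ≪≫ (DRing.RgammaI I).mapIso e, ?_⟩
  rw [Iso.trans_hom, Functor.mapIso_hom, Category.assoc, (DRing.RgammaIε I).naturality, reassoc_of% ha]
  rfl

theorem torsD_obj {f : A} (hf : f ∈ I) (K : Dual.D A) : TorsD f ((DRing.RgammaI I).obj K) := by
  obtain ⟨J, -, -, e, a, -⟩ := exists_model I K
  exact ((torsD_Q_iff f _).2 (tors_gammaCx hf J)).of_iso a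

theorem isPowerTorsion_obj (hI : I.FG) (K : Dual.D A) (i : ℤ) :
    LocCoh.IsPowerTorsion I (Dual.HD A ((DRing.RgammaI I).obj K) i) :=
  (isPowerTorsion_iff (Ideal.span_eq I) hI _).2 fun _ hf x => torsD_obj I hf K i x

variable [IsNoetherianRing A]

theorem exists_list : ∃ l : List A, Ideal.span {x | x ∈ l} = I := exists_list_of_fg (IsNoetherian.noetherian I)

theorem mem_of_list {l : List A} (hl : Ideal.span {x | x ∈ l} = I) {f : A} (hf : f ∈ l) : f ∈ I :=
  hl ▸ Ideal.subset_span hf

/-- Morphisms from torsion objects into `RΓ_I`. -/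
theorem bijective_ε (K T : Dual.D A) (hT : ∀ f ∈ I, TorsD f T) :
    Function.Bijective fun α : T ⟶ (DRing.RgammaI I).obj K => α ≫ (DRing.RgammaIε I).app K := by
  obtain ⟨l, rfl⟩ := exists_list I
  obtain ⟨J, -, hinj, e, a, ha⟩ := exists_model (Ideal.span {x | x ∈ l}) K
  have h := (gamma_props J l).1 T fun f hf => hT f (Ideal.subset_span hf)
  have h1 : Function.Bijective fun α : T ⟶ DerivedCategory.Q.obj J => α ≫ e.hom :=
    ((Iso.refl T).homCongr e).bijective.comp Function.bijective_id |> fun h => bij_congr h fun α => by simp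
  have h2 : Function.Bijective fun α : T ⟶ (DRing.RgammaI (Ideal.span {x | x ∈ l})).obj K => α ≫ a.inv :=
    ((Iso.refl T).homCongr a.symm).bijective.comp Function.bijective_id |> fun h => bij_congr h fun α => by simp
  refine bij_congr ((h1.comp h).comp h2) fun α => ?_
  simp only [Function.comp_apply, Category.assoc, ← ha, Iso.inv_hom_id_assoc]

/-- Morphisms from `RΓ_I K` into complete objects. -/
theorem bijective_ε_complete (K E : Dual.D A) (hE : DRing.IsDerivedComplete I E) :
    Function.Bijective fun α : K ⟶ E => (DRing.RgammaIε I).app K ≫ α := by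
  obtain ⟨l, rfl⟩ := exists_list I
  obtain ⟨J, -, hinj, e, a, ha⟩ := exists_model (Ideal.span {x | x ∈ l}) K
  have h := (gamma_props J l).2.1 E fun f hf => hE f (Ideal.subset_span hf)
  refine bij_congr (((bij_iso a.inv (E := E))).comp (h.comp (bij_iso e.hom (E := E)))) fun α => ?_
  simp only [Function.comp_apply]
  rw [← Category.assoc (DerivedCategory.Q.map _), ← ha, Category.assoc, Iso.inv_hom_id_assoc]

theorem torsD_of_forall {I : Ideal A} {T : Dual.D A} (hT : ∀ i, LocCoh.IsPowerTorsion I (Dual.HD A T i))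
    {f : A} (hf : f ∈ I) : TorsD f T := fun n x => by
  obtain ⟨k, hk⟩ := hT n x
  exact ⟨k, hk _ (Ideal.pow_mem_pow hf k)⟩

theorem nonempty_iso_of_bijective {C : Type*} [Category C] (P : C → Prop) {X Y Z : C} (u : X ⟶ Z)
    (v : Y ⟶ Z) (hX : P X) (hY : P Y) (hu : ∀ T, P T → Function.Bijective fun α : T ⟶ X => α ≫ u)
    (hv : ∀ T, P T → Function.Bijective fun α : T ⟶ Y => α ≫ v) : Nonempty (X ≅ Y) := by
  obtain ⟨σ, hσ⟩ := (hv X hX).2 u
  obtain ⟨τ, hτ⟩ := (hu Y hY).2 v
  simp only at hσ hτ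
  exact ⟨⟨σ, τ, (hu X hX).1 (by simp only; rw [Category.assoc, hτ, hσ, Category.id_comp]),
    (hv Y hY).1 (by simp only; rw [Category.assoc, hσ, hτ, Category.id_comp])⟩⟩

theorem isIso_ε (K : Dual.D A) (hK : ∀ f ∈ I, TorsD f K) : IsIso ((DRing.RgammaIε I).app K) := by
  obtain ⟨σ, hσ⟩ := (bijective_ε I K K hK).2 (𝟙 K)
  simp only at hσ
  exact ⟨σ, (bijective_ε I K _ fun f hf => torsD_obj I hf K).1
    (by simp only; exact ((Category.assoc _ _ _).trans ((congrArg (_ ≫ ·) hσ).trans (Category.comp_id _))).trans (Category.id_comp _).symm), hσ⟩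

theorem torsD_preserved {f : A} {K : Dual.D A} (hK : TorsD f K) : TorsD f ((DRing.RgammaI I).obj K) := by
  obtain ⟨l, rfl⟩ := exists_list I
  obtain ⟨J, -, hinj, e, a, -⟩ := exists_model (Ideal.span {x | x ∈ l}) K
  exact ((torsD_Q_iff f _).2 ((gamma_props J l).2.2 f ((torsD_Q_iff f J).1 (hK.of_iso e.symm)))).of_iso a

/-- `RΓ_J ∘ RΓ_I = RΓ_{I+J}`. -/
theorem nonempty_comp_iso (J : Ideal A) [DRing.HasRgammaI J] [DRing.HasRgammaI (I ⊔ J)] (K : Dual.D A) :
    Nonempty ((DRing.RgammaI J).obj ((DRing.RgammaI I).obj K) ≅ (DRing.RgammaI (I ⊔ J)).obj K) := by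
  obtain ⟨l₁, h₁⟩ := exists_list I
  obtain ⟨l₂, h₂⟩ := exists_list J
  have hspan : Ideal.span ({x | x ∈ l₁} ∪ {x | x ∈ l₂}) = I ⊔ J := by rw [Ideal.span_union, h₁, h₂]
  have key : ∀ T : Dual.D A, (∀ f, f ∈ I ∨ f ∈ J → TorsD f T) ↔ ∀ f ∈ I ⊔ J, TorsD f T := fun T =>
    ⟨fun h f hf => torsD_of_forall (fun i => (isPowerTorsion_iff hspan (IsNoetherian.noetherian _) _).2
        fun g hg x => h g (hg.imp (mem_of_list I h₁) (mem_of_list J h₂)) i x) hf,
      fun h f hf => hf.elim (fun hf => h f (Ideal.mem_sup_left hf)) fun hf => h f (Ideal.mem_sup_right hf)⟩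
  refine nonempty_iso_of_bijective (fun T : Dual.D A => ∀ f ∈ I ⊔ J, TorsD f T)
    ((DRing.RgammaIε J).app _ ≫ (DRing.RgammaIε I).app K) ((DRing.RgammaIε (I ⊔ J)).app K)
    ((key _).1 fun f hf => hf.elim (fun hf => torsD_preserved J (torsD_obj I hf K)) fun hf => torsD_obj J hf _)
    (fun f hf => torsD_obj _ hf K) (fun T hT => ?_) fun T hT => bijective_ε (I ⊔ J) K T hT
  exact bij_congr ((bijective_ε I K T fun f hf => hT f (Ideal.mem_sup_left hf)).comp
    (bijective_ε J _ T fun f hf => hT f (Ideal.mem_sup_right hf))) fun α => Category.assoc _ _ _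

/-- The adjunction. -/
theorem exists_adjunction : ∃ h : ∀ K : Dual.D A, (fun L : Dual.D A => ∀ i : ℤ, LocCoh.IsPowerTorsion I (Dual.HD A L i)) ((DRing.RgammaI I).obj K), Nonempty (ObjectProperty.ι (fun L : Dual.D A => ∀ i : ℤ, LocCoh.IsPowerTorsion I (Dual.HD A L i)) ⊣ ObjectProperty.lift (fun L : Dual.D A => ∀ i : ℤ, LocCoh.IsPowerTorsion I (Dual.HD A L i)) (DRing.RgammaI I) h) := by
  let P : ObjectProperty (Dual.D A) := fun L => ∀ i : ℤ, LocCoh.IsPowerTorsion I (Dual.HD A L i)
  let h : ∀ K, P ((DRing.RgammaI I).obj K) := isPowerTorsion_obj I (IsNoetherian.noetherian I)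
  refine ⟨h, ⟨Adjunction.mkOfHomEquiv
    { homEquiv := fun T K => ((P.fullyFaithfulι.homEquiv (X := T) (Y := ⟨_, h K⟩)).trans
        (Equiv.ofBijective _ (bijective_ε I K T.obj fun f hf => torsD_of_forall T.property hf))).symm
      homEquiv_naturality_left_symm := fun g k => ?_
      homEquiv_naturality_right := fun {T K K'} v w => ?_ }⟩⟩
  · show (g ≫ k).hom ≫ (DRing.RgammaIε I).app _ = g.hom ≫ k.hom ≫ (DRing.RgammaIε I).app _
    exact Category.assoc _ _ _
  · let E := fun K => (P.fullyFaithfulι.homEquiv (X := T) (Y := ⟨_, h K⟩)).trans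
      (Equiv.ofBijective _ (bijective_ε I K T.obj fun f hf => torsD_of_forall T.property hf))
    show (E K').symm (v ≫ w) = (E K).symm v ≫ (P.lift (DRing.RgammaI I) h).map w
    apply (E K').injective
    rw [Equiv.apply_symm_apply]
    show v ≫ w = (((E K).symm v).hom ≫ (DRing.RgammaI I).map w) ≫ (DRing.RgammaIε I).app K'
    rw [Category.assoc, (DRing.RgammaIε I).naturality, Functor.id_map, ← Category.assoc]
    exact congrArg (· ≫ w) ((E K).apply_symm_apply v).symm

theorem bijective_unit (I : Ideal A) [DRing.HasDerivedCompletion I] (L : Dual.D A) (E : Dual.D A)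
    (hE : DRing.IsDerivedComplete I E) :
    Function.Bijective fun α : ((DRing.derivedCompletion I).obj L).obj ⟶ E =>
      DRing.toDerivedCompletion I L ≫ α := by
  have h := ((DRing.derivedCompletionAdj I).homEquiv L ⟨E, hE⟩).bijective.comp
    ((ObjectProperty.fullyFaithfulι (DRing.IsDerivedComplete I)).homEquiv
      (X := (DRing.derivedCompletion I).obj L) (Y := ⟨E, hE⟩)).symm.bijective
  refine bij_congr h fun α => ?_
  exact ((DRing.derivedCompletionAdj I).homEquiv_unit L ⟨E, hE⟩ _).trans (congrArg (_ ≫ ·)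
    ((ObjectProperty.fullyFaithfulι (DRing.IsDerivedComplete I)).map_preimage
      (X := (DRing.derivedCompletion I).obj L) (Y := (⟨E, hE⟩ : DRing.DComp I)) α))

/-- Torsion objects do not see completion. -/
theorem exists_completion_tors (l : List A) (K : Dual.D A) : ∃ (C : Dual.D A) (η : K ⟶ C),
    (∀ f ∈ l, IsC f C) ∧
    (∀ L, (∀ f ∈ l, IsC f L) → Function.Bijective fun α : C ⟶ L => η ≫ α) ∧
    ∀ T, (∀ f ∈ l, TorsD f T) → Function.Bijective fun α : T ⟶ K => α ≫ η := by
  induction l with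
  | nil => exact ⟨K, 𝟙 K, fun f hf => absurd hf List.not_mem_nil, fun L _ => bij_iso _, fun T _ =>
      bij_congr Function.bijective_id fun α => (Category.comp_id α).symm⟩
  | cons f l ih =>
    obtain ⟨C, η, hC, hL, hT'⟩ := ih
    obtain ⟨C', η', h1, h2, h3, R, adj, δ, hT⟩ := exists_step f C
    refine ⟨C', η ≫ η', fun g hg => ?_, fun L h => ?_, fun T h => ?_⟩
    · rcases List.mem_cons.1 hg with rfl | hg
      · exact h1
      · exact h2 g (hC g hg)
    · exact bij_congr ((hL L fun g hg => h g (List.mem_cons_of_mem _ hg)).comp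
        (h3 L (h f List.mem_cons_self))) fun α => (Category.assoc _ _ _).symm
    · haveI := isIso_smul_restrict f (R.obj C)
      have hb := @bijective_comp_left _ _ f _ _ _ _ _ _ (rot_of_distTriang _ hT)
        (isIso_smul_shift (f := f) (Y := (DRing.restrictD (φ_ f)).obj (R.obj C)) 1) T (h f List.mem_cons_self)
      exact bij_congr (hb.comp (hT' T fun g hg => h g (List.mem_cons_of_mem _ hg))) fun α => Category.assoc _ _ _

/-- Greenlees–May. -/
theorem greenlees_may [DRing.HasDerivedCompletion I] (K : Dual.D A) :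
    Nonempty ((DRing.RgammaI I).obj ((DRing.derivedCompletion I).obj K).obj ≅ (DRing.RgammaI I).obj K) ∧
    Nonempty ((DRing.derivedCompletion I).obj ((DRing.RgammaI I).obj K) ≅ (DRing.derivedCompletion I).obj K) := by
  obtain ⟨l, hl⟩ := exists_list I
  constructor
  · obtain ⟨C, η, hC, hU, hT⟩ := exists_completion_tors l K
    have hCI : DRing.IsDerivedComplete I C := hl ▸ isC_of_span C hC
    obtain ⟨e⟩ := nonempty_iso_completion I η hCI fun E hE => hU E fun f hf => hE f (mem_of_list I hl hf)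
    refine nonempty_iso_of_bijective (fun T : Dual.D A => ∀ f ∈ I, TorsD f T)
      ((DRing.RgammaIε I).app _ ≫ e.hom) ((DRing.RgammaIε I).app K ≫ η)
      (fun f hf => torsD_obj I hf _) (fun f hf => torsD_obj I hf _) (fun T h => ?_) fun T h => ?_
    · have he : Function.Bijective fun α : T ⟶ _ => α ≫ e.hom :=
        bij_congr ((Iso.refl T).homCongr e).bijective fun α => by simp
      exact bij_congr (he.comp (bijective_ε I _ T h)) fun α => Category.assoc _ _ _
    · exact bij_congr ((hT T fun f hf => h f (mem_of_list I hl hf)).comp (bijective_ε I K T h))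
        fun α => Category.assoc _ _ _
  · obtain ⟨e⟩ := nonempty_iso_completion I ((DRing.RgammaIε I).app K ≫ DRing.toDerivedCompletion I K)
      ((DRing.derivedCompletion I).obj K).property fun E hE =>
        bij_congr ((bijective_ε_complete I K E hE).comp (bijective_unit I K E hE))
          fun α => (Category.assoc _ _ _).symm
    exact ⟨ObjectProperty.isoMk _ e⟩

end Groth.Agent.RGamma
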