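import Groth.Agent.RGamma.BaseChange
import Groth.Agent.RHomCx.CechZero
import Groth.Agent.DComplete.TensorFinite
import Groth.Agent.DComplete.FlatTensor
import Mathlib.RingTheory.Localization.BaseChange

/-!
# Derived torsion of modules computed by the Čech complex of the ring
-/

set_option autoImplicit false
set_option linter.style.haveILetI false

open CategoryTheory CategoryTheory.Limits CategoryTheory.Pretriangulated
open CategoryTheory.MonoidalCategory

universe u

attribute [local instance] HasDerivedCategory.standard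

namespace Groth.Agent.RGamma

open DComplete RHomCx Groth.Agent.DRingPC

variable {A : Type u} [CommRing A]

/-- The extended Čech complex of the ring. -/
noncomputable abbrev CC (l : List A) : DRing.Cx A := DerCA.extCech (ModuleCat.of A A) l

theorem extCech_X_high (M : ModuleCat.{u} A) : ∀ (l : List A) (n : ℤ), (l.length : ℤ) < n →
    IsZero ((DerCA.extCech M l).X n) := by
  intro l
  induction l with
  | nil =>
    intro n hn
    exact HomologicalComplex.isZero_single_obj_X (ComplexShape.up ℤ) 0 M n (by simp at hn; omega)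
  | cons f l ih =>
    intro n hn
    simp only [List.length_cons, Nat.cast_add, Nat.cast_one] at hn
    refine IsZero.of_iso ?_ (DerCA.mappingCoconeXIso _ n)
    rw [Limits.biprod_isZero_iff]
    exact ⟨ih n (by omega), (DerCA.locFunctor (Submonoid.powers f)).map_isZero (ih (n - 1) (by omega))⟩

theorem isZero_away_tensor_iff (f : A) (M : ModuleCat.{u} A) :
    IsZero ((tensorLeft (ModuleCat.of A (Localization.Away f))).obj M) ↔ ∀ x : M, ∃ k : ℕ, f ^ k • x = 0 := by
  let L := Localization.Away f
  haveI : IsLocalizedModule (Submonoid.powers f) (TensorProduct.mk A L M 1) :=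
    (isLocalizedModule_iff_isBaseChange (Submonoid.powers f) L _).2 (TensorProduct.isBaseChange A M L)
  refine ⟨fun h x => ?_, fun h => ?_⟩
  · haveI := ModuleCat.subsingleton_of_isZero h
    obtain ⟨⟨_, k, rfl⟩, hk⟩ := (IsLocalizedModule.eq_zero_iff (Submonoid.powers f)
      (TensorProduct.mk A L M 1)).1 (@Subsingleton.elim _
        (show Subsingleton (TensorProduct A L M) from ‹_›) _ _)
    exact ⟨k, hk⟩
  · refine @ModuleCat.isZero_of_subsingleton _ _ _
      (show Subsingleton (TensorProduct A L M) from subsingleton_of_forall_eq 0 fun z => ?_)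
    obtain ⟨⟨m, s⟩, hm⟩ := IsLocalizedModule.surj (Submonoid.powers f) (TensorProduct.mk A L M 1) z
    obtain ⟨k, hk⟩ := h m
    refine ((Module.End.isUnit_iff _).1 (IsLocalizedModule.map_units (TensorProduct.mk A L M 1)
      (⟨f ^ k, k, rfl⟩ * s : Submonoid.powers f))).1 ?_
    show (f ^ k * (s : A)) • z = (f ^ k * (s : A)) • (0 : TensorProduct A L M)
    rw [smul_zero, mul_smul]
    refine (congrArg (f ^ k • ·) hm).trans ?_
    exact ((map_smul (TensorProduct.mk A L M 1) (f ^ k) m).symm.trans (congrArg _ hk)).trans (map_zero _)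

/-- Exchanging two tensor factors. -/
noncomputable def tensorLeftSwap (X Y : ModuleCat.{u} A) : tensorLeft X ⋙ tensorLeft Y ≅ tensorLeft Y ⋙ tensorLeft X :=
  (tensorLeftTensor Y X).symm ≪≫ (curriedTensor (ModuleCat.{u} A)).mapIso (β_ Y X) ≪≫ tensorLeftTensor X Y

theorem tors_tensor_cech (l : List A) {f : A} (hf : f ∈ l) (N : ModuleCat.{u} A) :
    Tors f ((tcx N).obj (CC l)) := by
  let L := ModuleCat.of A (Localization.Away f)
  haveI : Module.Flat A L := inferInstanceAs (Module.Flat A (Localization.Away f))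
  haveI : PreservesFiniteLimits (tensorLeft L) := inferInstance
  have hL : ∀ n, ((tcx L).obj (CC l)).ExactAt n := fun n =>
    (HomologicalComplex.exactAt_iff_isZero_homology _ n).2 (((isZero_away_tensor_iff f _).2
      (tors_extCech (ModuleCat.of A A) l f hf n)).of_iso (((CC l).sc n).mapHomologyIso (tensorLeft L)))
  have hfl : ∀ j, Module.Flat A (((tcx L).obj (CC l)).X j) := fun j =>
    haveI := flat_extCech l j
    flat_tensor (Localization.Away f) ((CC l).X j)
  have hN := exactAt_tensor_of_acyclic ((tcx L).obj (CC l)) hfl (l.length : ℤ)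
    (fun j hj => (tensorLeft L).map_isZero (extCech_X_high _ l j hj)) hL N
  intro n
  refine (isZero_away_tensor_iff f _).1 (IsZero.of_iso ?_ (((((tcx N).obj (CC l)).sc n).mapHomologyIso (tensorLeft L)).symm))
  refine IsZero.of_iso ((HomologicalComplex.exactAt_iff_isZero_homology _ n).1 (hN n)) ?_
  exact (HomologicalComplex.homologyFunctor (ModuleCat.{u} A) (ComplexShape.up ℤ) n).mapIso
    ((NatIso.mapHomologicalComplex (tensorLeftSwap N L) (ComplexShape.up ℤ)).app (CC l))

theorem exists_cech_proj : ∀ l : List A,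
    ∃ π : CC l ⟶ (HomologicalComplex.single (ModuleCat.{u} A) (ComplexShape.up ℤ) 0).obj (ModuleCat.of A A),
      ∀ (N : ModuleCat.{u} A) (T : Dual.D A), (∀ f ∈ l, TorsD f T) →
        Function.Bijective fun α : T ⟶ DerivedCategory.Q.obj ((tcx N).obj (CC l)) =>
          α ≫ DerivedCategory.Q.map ((tcx N).map π) := by
  intro l
  induction l with
  | nil =>
    refine ⟨𝟙 _, fun N T _ => bij_congr Function.bijective_id fun α => ?_⟩
    exact ((congrArg (α ≫ ·) ((congrArg DerivedCategory.Q.map ((tcx N).map_id _)).trans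
      (DerivedCategory.Q.map_id _))).trans (Category.comp_id α)).symm
  | cons f l ih =>
    obtain ⟨π, hπ⟩ := ih
    let φ := DerCA.locCxUnit (Submonoid.powers f) (CC l)
    let S := CochainComplex.mappingCone.triangleRotateShortComplex φ
    let S' := S.map (CategoryTheory.shiftFunctor (DRing.Cx A) (-1 : ℤ))
    let e₃ : S'.X₃ ≅ CC l := (shiftFunctorCompIsoId (DRing.Cx A) (1 : ℤ) (-1) (by lia)).app (CC l)
    refine ⟨S'.g ≫ e₃.hom ≫ π, fun N T hT => ?_⟩
    let σ := CochainComplex.mappingCone.triangleRotateShortComplexSplitting φ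
    have hS : (S'.map (tcx N)).ShortExact :=
      KFlat.shortExact_of_splitting (S'.map (tcx N)) fun p => (σ (p + (-1))).map (tensorLeft N)
    haveI : ∀ p, IsIso ((f • 𝟙 (S'.map (tcx N)).X₁).f p) := fun p => by
      have h1 : IsIso (f • 𝟙 (S'.X₁.X p)) := (ConcreteCategory.isIso_iff_bijective _).2
        ((Module.End.isUnit_iff _).1 (IsLocalizedModule.map_units (S := Submonoid.powers f)
          (LocalizedModule.mkLinearMap (Submonoid.powers f) ((CC l).X (p + (-1))))
          (⟨f, Submonoid.mem_powers f⟩ : Submonoid.powers f)))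
      show IsIso (f • 𝟙 ((tensorLeft N).obj (S'.X₁.X p)))
      have h2 : (tensorLeft N).map (f • 𝟙 (S'.X₁.X p)) = f • 𝟙 ((tensorLeft N).obj (S'.X₁.X p)) := by
        show N ◁ (f • 𝟙 (S'.X₁.X p)) = _
        rw [MonoidalLinear.whiskerLeft_smul, MonoidalCategory.whiskerLeft_id]
        rfl
      rw [← h2]
      exact Functor.map_isIso (tensorLeft N) _
    haveI : IsIso (f • 𝟙 (S'.map (tcx N)).X₁) := HomologicalComplex.Hom.isIso_of_components _
    haveI : IsIso (f • 𝟙 (DerivedCategory.Q.obj (S'.map (tcx N)).X₁)) := by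
      rw [← CategoryTheory.Functor.map_id, ← Functor.map_smul]
      infer_instance
    haveI : IsIso (f • 𝟙 ((DerivedCategory.triangleOfSES hS).obj₁⟦(1 : ℤ)⟧)) :=
      isIso_smul_shift (f := f) (Y := DerivedCategory.Q.obj (S'.map (tcx N)).X₁) 1
    have hdist := rot_of_distTriang _ (DerivedCategory.triangleOfSES_distinguished hS)
    have h1 := bijective_comp_left hdist (hT f List.mem_cons_self)
    have h2 := hπ N T fun g hg => hT g (List.mem_cons_of_mem _ hg)
    let e := DerivedCategory.Q.mapIso ((tcx N).mapIso e₃)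
    have h3 : Function.Bijective fun α : T ⟶ DerivedCategory.Q.obj ((tcx N).obj S'.X₃) => α ≫ e.hom :=
      bij_congr ((Iso.refl T).homCongr e).bijective fun α => by simp
    refine bij_congr ((h2.comp h3).comp h1) fun α => ?_
    simp only [Function.comp_apply, Functor.map_comp, e, Functor.mapIso_hom]
    exact (Category.assoc _ _ _).trans (Category.assoc α _ _)

/-- The complex `N[0]` is the tensor product with the ring in degree zero. -/
noncomputable def tensorSingleIso (N : ModuleCat.{u} A) :
    (tcx N).obj ((HomologicalComplex.single (ModuleCat.{u} A) (ComplexShape.up ℤ) 0).obj (ModuleCat.of A A)) ≅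
      (HomologicalComplex.single (ModuleCat.{u} A) (ComplexShape.up ℤ) 0).obj N :=
  (HomologicalComplex.singleMapHomologicalComplex (tensorLeft N) (ComplexShape.up ℤ) 0).app _ ≪≫
    (HomologicalComplex.single (ModuleCat.{u} A) (ComplexShape.up ℤ) 0).mapIso (ρ_ N)

theorem tensorSingleIso_natural {N N' : ModuleCat.{u} A} (g : N ⟶ N') :
    (tensorSingleIso N).hom ≫ (HomologicalComplex.single (ModuleCat.{u} A) (ComplexShape.up ℤ) 0).map g =
      tcxMap g _ ≫ (tensorSingleIso N').hom := by
  simp only [tensorSingleIso, Iso.trans_hom, Functor.mapIso_hom, Category.assoc, ← Functor.map_comp]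
  rw [← MonoidalCategory.rightUnitor_naturality, Functor.map_comp]
  exact (Category.assoc _ _ _).symm.trans
    ((congrArg (· ≫ _) (compat_single g (ModuleCat.of A A))).trans (Category.assoc _ _ _))

variable [IsNoetherianRing A] (J : Ideal A) [DRing.HasRgammaI J]

/-- Derived torsion of modules is computed by the Čech complex, naturally. -/
theorem exists_cech_iso : ∃ (l : List A), Ideal.span {x | x ∈ l} = J ∧
    ∃ (π : CC l ⟶ (HomologicalComplex.single (ModuleCat.{u} A) (ComplexShape.up ℤ) 0).obj (ModuleCat.of A A))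
      (θ : ∀ N : ModuleCat.{u} A, DerivedCategory.Q.obj ((tcx N).obj (CC l)) ≅
        (DRing.RgammaI J).obj ((DerivedCategory.singleFunctor (ModuleCat.{u} A) 0).obj N)),
      (∀ N, (θ N).hom ≫ (DRing.RgammaIε J).app ((DerivedCategory.singleFunctor (ModuleCat.{u} A) 0).obj N) =
        DerivedCategory.Q.map ((tcx N).map π) ≫ DerivedCategory.Q.map (tensorSingleIso N).hom) ∧
      ∀ {N N' : ModuleCat.{u} A} (g : N ⟶ N'),
        DerivedCategory.Q.map (tcxMap g (CC l)) ≫ (θ N').hom =
          (θ N).hom ≫ (DRing.RgammaI J).map ((DerivedCategory.singleFunctor (ModuleCat.{u} A) 0).map g) := by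
  obtain ⟨l, hl⟩ := exists_list J
  obtain ⟨π, hπ⟩ := exists_cech_proj l
  let S := DerivedCategory.singleFunctor (ModuleCat.{u} A) 0
  let p : ∀ N : ModuleCat.{u} A, DerivedCategory.Q.obj ((tcx N).obj (CC l)) ⟶ S.obj N := fun N =>
    DerivedCategory.Q.map ((tcx N).map π) ≫ DerivedCategory.Q.map (tensorSingleIso N).hom
  have hJ : ∀ N, ∀ f ∈ J, TorsD f (DerivedCategory.Q.obj ((tcx N).obj (CC l))) := fun N f hf => by
    refine torsD_of_forall (I := J) (fun n => (isPowerTorsion_iff hl (IsNoetherian.noetherian J) _).2 ?_) hf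
    exact fun g hg => (torsD_Q_iff g _).2 (tors_tensor_cech l hg N) n
  have hp : ∀ N (T : Dual.D A), (∀ f ∈ J, TorsD f T) → Function.Bijective
      fun α : T ⟶ DerivedCategory.Q.obj ((tcx N).obj (CC l)) => α ≫ p N := fun N T hT => by
    have h3 : Function.Bijective fun α : T ⟶ DerivedCategory.Q.obj ((tcx N).obj _) =>
        α ≫ DerivedCategory.Q.map (tensorSingleIso N).hom :=
      bij_congr ((Iso.refl T).homCongr (DerivedCategory.Q.mapIso (tensorSingleIso N))).bijective fun α => by
        simp only [Iso.homCongr_apply, Iso.refl_inv, Functor.mapIso_hom]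
        exact Category.id_comp _
    exact bij_congr (h3.comp (hπ N T fun f hf => hT f (mem_of_list J hl hf))) fun α => Category.assoc _ _ _
  have hε := fun N T hT => bijective_ε J (S.obj N) T hT
  choose a ha using fun N => (hε N _ (hJ N)).2 (p N)
  choose b hb using fun N => (hp N _ fun f hf => torsD_obj J hf (S.obj N)).2 ((DRing.RgammaIε J).app (S.obj N))
  simp only at ha hb
  refine ⟨l, hl, π, fun N => ⟨a N, b N,
    (hp N _ (hJ N)).1 (by simp only [Category.assoc, hb, ha, Category.id_comp]),
    (hε N _ fun f hf => torsD_obj J hf _).1 (by simp only [Category.assoc, ha, hb]; exact (Category.id_comp _).symm)⟩,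
    ha, fun {N N'} g => (hε N' _ (hJ N)).1 ?_⟩
  simp only [Category.assoc]
  rw [ha N']
  refine Eq.trans ?_ (((congrArg (a N ≫ ·) ((DRing.RgammaIε J).naturality (S.map g))).trans
    ((Category.assoc _ _ _).symm.trans (congrArg (· ≫ S.map g) (ha N)))).symm)
  show _ = (DerivedCategory.Q.map _ ≫ DerivedCategory.Q.map _) ≫
    DerivedCategory.Q.map ((HomologicalComplex.single (ModuleCat.{u} A) (ComplexShape.up ℤ) 0).map g)
  have hnat : tcxMap g (CC l) ≫ (tcx N').map π = (tcx N).map π ≫ tcxMap g _ :=
    HomologicalComplex.hom_ext _ _ fun j => (whisker_exchange g (π.f j)).symm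
  have key : tcxMap g (CC l) ≫ (tcx N').map π ≫ (tensorSingleIso N').hom =
      ((tcx N).map π ≫ (tensorSingleIso N).hom) ≫
        (HomologicalComplex.single (ModuleCat.{u} A) (ComplexShape.up ℤ) 0).map g := by
    rw [Category.assoc, tensorSingleIso_natural, ← Category.assoc, hnat, Category.assoc]
  have hQ := congrArg (fun x => (DerivedCategory.Q (C := ModuleCat.{u} A)).map x) key
  simp only [Functor.map_comp] at hQ
  exact hQ

end Groth.Agent.RGamma
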