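import Groth.Agent.RGamma.CompletionTower
import Groth.Agent.AdicLim.Noetherian

/-!
# Degree zero of the derived completion of derived torsion
-/

set_option autoImplicit false
set_option linter.style.haveILetI false

open CategoryTheory CategoryTheory.Limits CategoryTheory.Pretriangulated
open CategoryTheory.MonoidalCategory
open scoped TensorProduct

universe u

attribute [local instance] HasDerivedCategory.standard

namespace Groth.Agent.RGamma

open DComplete RHomCx Groth.Agent.DRingPC Groth.Agent.LocCohLib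

variable {A : Type u} [CommRing A]

local notation "sgl" => HomologicalComplex.single (ModuleCat A) (ComplexShape.up ℤ) 0
local notation "DH" => DerivedCategory.homologyFunctor (ModuleCat A)

theorem selfIso_scCls (N : ModuleCat.{u} A) (z : LinearMap.ker (((sgl).obj N).sc 0).g.hom) :
    (HomologicalComplex.singleObjHomologySelfIso (ComplexShape.up ℤ) 0 N).hom (scCls (((sgl).obj N).sc 0) z) =
      (HomologicalComplex.singleObjXSelf (ComplexShape.up ℤ) 0 N).hom z.1 := by
  have e1 := ConcreteCategory.congr_hom (HomologicalComplex.homologyπ_singleObjHomologySelfIso_hom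
    (ComplexShape.up ℤ) 0 N) ((((sgl).obj N).sc 0).moduleCatCyclesIso.inv z)
  have e2 := ConcreteCategory.congr_hom (HomologicalComplex.singleObjCyclesSelfIso_hom
    (ComplexShape.up ℤ) 0 N) ((((sgl).obj N).sc 0).moduleCatCyclesIso.inv z)
  have e3 := ConcreteCategory.congr_hom (((sgl).obj N).sc 0).moduleCatCyclesIso_inv_iCycles z
  exact e1.trans (e2.trans (congrArg (HomologicalComplex.singleObjXSelf (ComplexShape.up ℤ) 0 N).hom e3))

theorem tors_of_termwise (f : A) (P : DRing.Cx A) (h : ∀ n (x : P.X n), ∃ k : ℕ, f ^ k • x = 0) : Tors f P := by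
  intro n x
  obtain ⟨z, rfl⟩ := scCls_surjective (P.sc n) x
  obtain ⟨k, hk⟩ := h n z.1
  exact ⟨k, (map_smul (scCls (P.sc n)) _ _).symm.trans
    ((congrArg _ (Subtype.ext hk : f ^ k • z = 0)).trans (map_zero _))⟩

theorem fac_map_Q {P P' : DRing.Cx A} (g : P ⟶ P') (n : ℤ) (x : P.homology n) :
    ((DerivedCategory.homologyFunctorFactors (ModuleCat.{u} A) n).hom.app P')
      (((DH n).map (DerivedCategory.Q.map g)) ((DerivedCategory.homologyFunctorFactors (ModuleCat.{u} A) n).inv.app P x)) =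
      HomologicalComplex.homologyMap g n x :=
  ConcreteCategory.congr_hom (NatIso.naturality_1 (DerivedCategory.homologyFunctorFactors (ModuleCat.{u} A) n) g) x

theorem cls_eq_zero (P : DRing.Cx A) (hP : IsZero (P.X (-1))) (z : LinearMap.ker (P.sc 0).g.hom)
    (h : scCls (P.sc 0) z = 0) : z.1 = 0 := by
  obtain ⟨y, hy⟩ := (scCls_eq_zero z).1 h
  haveI := ModuleCat.subsingleton_of_isZero hP
  have : y = 0 := @Subsingleton.elim _
    (show Subsingleton (P.X ((ComplexShape.up ℤ).prev 0)) by rw [CochainComplex.prev]; assumption) _ _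
  rw [← hy, this]
  exact map_zero _

theorem cech_H0 (l : List A) (N : ModuleCat.{u} A) (q : (tcx N).obj (CC l) ⟶ (sgl).obj N)
    (hq : ∀ T : Dual.D A, (∀ f ∈ l, TorsD f T) →
      Function.Bijective fun α : T ⟶ DerivedCategory.Q.obj ((tcx N).obj (CC l)) => α ≫ DerivedCategory.Q.map q) :
    let g := fun z => (HomologicalComplex.singleObjXSelf (ComplexShape.up ℤ) 0 N).hom (q.f 0 z)
    (∀ z : LinearMap.ker ((((tcx N).obj (CC l))).sc 0).g.hom, g z.1 = 0 → z = 0) ∧
    (∀ z : LinearMap.ker ((((tcx N).obj (CC l))).sc 0).g.hom, ∀ f ∈ l, ∃ k : ℕ, f ^ k • g z.1 = 0) ∧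
    (∀ s : N, (∀ f ∈ l, ∃ k : ℕ, f ^ k • s = 0) →
      ∃ z : LinearMap.ker ((((tcx N).obj (CC l))).sc 0).g.hom, g z.1 = s) := by
  intro g
  let K := (tcx N).obj (CC l)
  let x₀ := (HomologicalComplex.singleObjXSelf (ComplexShape.up ℤ) 0 N).hom
  have hK : IsZero (K.X (-1)) := (tensorLeft N).map_isZero (extCech_X_neg _ l (-1) (by omega))
  have htor : ∀ z : LinearMap.ker (K.sc 0).g.hom, ∀ f ∈ l, ∃ k : ℕ, f ^ k • z = 0 := fun z f hf => by
    obtain ⟨k, hk⟩ := tors_tensor_cech l hf N 0 (scCls (K.sc 0) z)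
    exact ⟨k, Subtype.ext (cls_eq_zero K hK _ ((map_smul (scCls (K.sc 0)) _ _).trans hk))⟩
  have hsgl : ∀ (Z : ModuleCat.{u} A), (∀ f ∈ l, ∀ x : Z, ∃ k : ℕ, f ^ k • x = 0) →
      ∀ f ∈ l, TorsD f (DerivedCategory.Q.obj ((sgl).obj Z)) := fun Z hZ f hf => by
    refine (torsD_Q_iff f _).2 (tors_of_termwise f _ fun n x => ?_)
    by_cases hn : n = 0
    · subst hn
      let e := (HomologicalComplex.singleObjXSelf (ComplexShape.up ℤ) 0 Z).toLinearEquiv
      obtain ⟨k, hk⟩ := hZ f hf (e x)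
      exact ⟨k, e.injective ((map_smul e _ x).trans (hk.trans (map_zero e).symm))⟩
    · haveI := ModuleCat.subsingleton_of_isZero
        (HomologicalComplex.isZero_single_obj_X (ComplexShape.up ℤ) 0 Z n hn)
      exact ⟨0, Subsingleton.elim _ _⟩
  refine ⟨fun z hz => ?_, fun z f hf => ?_, fun s hs => ?_⟩
  · let G : LinearMap.ker (K.sc 0).g.hom →ₗ[A] N := x₀.hom ∘ₗ (q.f 0).hom ∘ₗ Submodule.subtype _
    let Z := ModuleCat.of A (LinearMap.ker G)
    let j : Z ⟶ K.X 0 := ModuleCat.ofHom ((Submodule.subtype _) ∘ₗ (Submodule.subtype (LinearMap.ker G)))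
    let ι : (sgl).obj Z ⟶ K := HomologicalComplex.mkHomFromSingle j fun k hk => by
      refine ModuleCat.hom_ext (LinearMap.ext fun x => ?_)
      have hx := x.1.2
      obtain rfl : k = (ComplexShape.up ℤ).next 0 := ((ComplexShape.up ℤ).next_eq' hk).symm
      exact hx
    have h0 : ι ≫ q = 0 := HomologicalComplex.from_single_hom_ext (by
      rw [HomologicalComplex.comp_f, HomologicalComplex.mkHomFromSingle_f, HomologicalComplex.zero_f, Category.assoc]
      refine (cancel_mono x₀).1 (Eq.trans ?_ zero_comp.symm)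
      rw [Category.assoc, Category.assoc]
      have hj : j ≫ q.f 0 ≫ x₀ = 0 := ModuleCat.hom_ext (LinearMap.ext fun x => x.2)
      rw [hj, comp_zero])
    have hT := hsgl Z fun f hf x => by
      obtain ⟨k, hk⟩ := htor x.1 f hf
      exact ⟨k, Subtype.ext hk⟩
    have hQ : DerivedCategory.Q.map ι = 0 := (hq _ hT).1 (by
      simp only [← Functor.map_comp, h0, Functor.map_zero, zero_comp])
    let xZ : Z := ⟨z, hz⟩
    have hxc : (((sgl).obj Z).sc 0).g ((HomologicalComplex.singleObjXSelf (ComplexShape.up ℤ) 0 Z).inv xZ) = 0 := by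
      rw [HomologicalComplex.shortComplexFunctor_obj_g, HomologicalComplex.single_obj_d]
      rfl
    have h2 : HomologicalComplex.homologyMap ι 0 (scCls (((sgl).obj Z).sc 0) ⟨_, hxc⟩) = scCls (K.sc 0) z :=
      scCls_map ((HomologicalComplex.shortComplexFunctor _ _ 0).map ι) ⟨_, hxc⟩ z (by
        show ι.f 0 _ = z.1
        rw [HomologicalComplex.mkHomFromSingle_f]
        exact congrArg j (Iso.inv_hom_id_apply (HomologicalComplex.singleObjXSelf (ComplexShape.up ℤ) 0 Z) xZ))
    have h3 : HomologicalComplex.homologyMap ι 0 (scCls (((sgl).obj Z).sc 0) ⟨_, hxc⟩) = 0 := by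
      rw [← fac_map_Q, hQ, Functor.map_zero]
      exact map_zero _
    exact Subtype.ext (cls_eq_zero K hK z (h2.symm.trans h3))
  · obtain ⟨k, hk⟩ := htor z f hf
    refine ⟨k, Eq.trans ?_ ((congrArg (fun w => x₀ (q.f 0 w.1)) hk).trans
      ((congrArg x₀ (map_zero (q.f 0).hom)).trans (map_zero x₀.hom)))⟩
    exact ((congrArg x₀ (map_smul (q.f 0).hom (f ^ k) z.1)).trans (map_smul x₀.hom (f ^ k) _)).symm
  · let S := Submodule.span A {s}
    let T := ModuleCat.of A S
    have hT := hsgl T fun f hf x => by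
      obtain ⟨k, hk⟩ := hs f hf
      obtain ⟨a, ha⟩ := Submodule.mem_span_singleton.1 x.2
      exact ⟨k, Subtype.ext (by
        show f ^ k • (x : N) = 0
        rw [← ha, smul_comm, hk, smul_zero])⟩
    let i : T ⟶ N := ModuleCat.ofHom S.subtype
    obtain ⟨α, hα⟩ := (hq _ hT).2 (DerivedCategory.Q.map ((sgl).map i))
    simp only at hα
    let φ := DerivedCategory.homologyFunctorFactors (ModuleCat.{u} A) 0
    let sT : T := ⟨s, Submodule.mem_span_singleton_self s⟩
    let sh := (HomologicalComplex.singleObjHomologySelfIso (ComplexShape.up ℤ) 0 T).inv sT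
    obtain ⟨z, hz⟩ := scCls_surjective (K.sc 0) (φ.hom.app K ((DH 0).map α (φ.inv.app _ sh)))
    have hc : (((sgl).obj N).sc 0).g (q.f 0 z.1) = 0 := by
      rw [HomologicalComplex.shortComplexFunctor_obj_g, HomologicalComplex.single_obj_d]
      rfl
    refine ⟨z, ?_⟩
    show x₀ (q.f 0 z.1) = s
    refine (selfIso_scCls N ⟨_, hc⟩).symm.trans ?_
    rw [← scCls_map ((HomologicalComplex.shortComplexFunctor _ _ 0).map q) z ⟨_, hc⟩ rfl]
    refine (congrArg (fun y => (HomologicalComplex.singleObjHomologySelfIso (ComplexShape.up ℤ) 0 N).hom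
      (HomologicalComplex.homologyMap q 0 y)) hz).trans ?_
    have e1 : HomologicalComplex.homologyMap q 0 (φ.hom.app K ((DH 0).map α (φ.inv.app _ sh))) =
        HomologicalComplex.homologyMap ((sgl).map i) 0 sh := by
      rw [← fac_map_Q ((sgl).map i) 0 sh, ← hα, Functor.map_comp]
      exact (ConcreteCategory.congr_hom (φ.hom.naturality q) _).symm
    rw [e1]
    refine (ConcreteCategory.congr_hom (HomologicalComplex.singleObjHomologySelfIso_hom_naturality
      (ComplexShape.up ℤ) 0 i) sh).trans ?_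
    exact congrArg i (Iso.inv_hom_id_apply (HomologicalComplex.singleObjHomologySelfIso (ComplexShape.up ℤ) 0 T) sT)

variable (I J : Ideal A) (M : Type u) [AddCommGroup M] [Module A M]

theorem torsion_union_iff [IsNoetherianRing A] [Module.Finite A M] (s : M) :
    (∃ J' : Ideal A, J' ≤ J ∧ J ≤ (J' ⊔ I).radical ∧ s ∈ DRing.torsionSub J' M) ↔
      ∀ n, ∀ f ∈ J, ∃ k : ℕ, f ^ k • s ∈ (I ^ n • ⊤ : Submodule A M) := by
  refine ⟨?_, fun h => ?_⟩
  · rintro ⟨J', -, hJ', N, hN⟩ n f hf
    obtain ⟨m, hm⟩ := hJ' hf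
    refine ⟨m * (N + n), ?_⟩
    have h1 : f ^ (m * (N + n)) ∈ J' ^ N ⊔ I ^ n := by
      rw [pow_mul]
      exact Ideal.sup_pow_add_le_pow_sup_pow (Ideal.pow_mem_pow hm _)
    obtain ⟨a, ha, b, hb, hab⟩ := Submodule.mem_sup.1 h1
    rw [← hab, add_smul, hN a ha, zero_add]
    exact Submodule.smul_mem_smul hb Submodule.mem_top
  · let S := Submodule.span A {s}
    obtain ⟨c, hc⟩ := I.exists_pow_inf_eq_pow_smul S
    refine ⟨J ⊓ (Submodule.span A {s}).annihilator, inf_le_left, fun f hf => ?_, ⟨1, fun a ha => ?_⟩⟩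
    · obtain ⟨k, hk⟩ := h (c + 1) f hf
      have h1 : f ^ k • s ∈ I • Submodule.span A {s} := by
        have h2 : f ^ k • s ∈ (I ^ (c + 1) • ⊤ : Submodule A M) ⊓ S :=
          ⟨hk, Submodule.smul_mem _ _ (Submodule.mem_span_singleton_self s)⟩
        rw [hc (c + 1) (Nat.le_succ c), show c + 1 - c = 1 by omega, pow_one] at h2
        exact Submodule.smul_mono le_rfl inf_le_right h2
      obtain ⟨a, ha, has⟩ := Submodule.mem_smul_span_singleton.1 h1
      have hann : f ^ k - a ∈ (Submodule.span A {s}).annihilator :=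
        (Submodule.mem_annihilator_span_singleton _ _).2 (by rw [sub_smul, has, sub_self])
      refine ⟨k + 1, Submodule.mem_sup.2 ⟨f * (f ^ k - a), ⟨J.mul_mem_right _ hf, Ideal.mul_mem_left _ f hann⟩,
        f * a, I.mul_mem_left f ha, by ring⟩⟩
    · rw [pow_one] at ha
      exact (Submodule.mem_annihilator_span_singleton _ _).1 ha.2

theorem exists_adic_lift (n₀ : ModuleCat.{u} A) (y : ∀ n, (tensorLeft (quotM I M n)).obj n₀)
    (hy : ∀ n, ((quotMap I M n) ▷ n₀).hom (y (n + 1)) = y n) :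
    ∃ x : (tensorLeft (ModuleCat.of A M) ⋙ adicF I).obj n₀, ∀ n, ((pT I M n).app n₀).hom x = y n := by
  let q := fun n => (qT I M n n₀).symm (y n)
  have hstep : ∀ n, AdicCompletion.transitionMap I (M ⊗[A] n₀) (Nat.le_succ n) (q (n + 1)) = q n := fun n =>
    (qT I M n n₀).injective (by
      rw [qT_transition, LinearEquiv.apply_symm_apply, LinearEquiv.apply_symm_apply]
      exact hy n)
  refine ⟨⟨q, fun {m n} hmn => ?_⟩, fun n => (qT I M n n₀).apply_symm_apply (y n)⟩
  induction hmn with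
  | refl =>
    obtain ⟨z, hz⟩ := Submodule.Quotient.mk_surjective _ (q m)
    rw [← hz]
    rfl
  | @step k hk ih =>
    rw [← ih, ← hstep k]
    obtain ⟨z, hz⟩ := Submodule.Quotient.mk_surjective _ (q (k + 1))
    rw [← hz]
    rfl

theorem pT_ext (n₀ : ModuleCat.{u} A) (x : (tensorLeft (ModuleCat.of A M) ⋙ adicF I).obj n₀)
    (hx : ∀ n, ((pT I M n).app n₀).hom x = 0) : x = 0 :=
  AdicCompletion.ext fun n => ((qT I M n n₀).map_eq_zero_iff.1 (hx n)).trans
    (map_zero (AdicCompletion.eval I _ n)).symm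

theorem completion_H0 [IsNoetherianRing A] [IsAdicComplete I A] [DRing.HasRgammaI J] [DRing.HasDerivedCompletion I]
    [Module.Finite A M] :
    Function.Injective ((DH 0).map ((ObjectProperty.ι (DRing.IsDerivedComplete I)).map
        ((DRing.derivedCompletion I).map ((DRing.RgammaIε J).app (Dual.inD A M))))).hom ∧
      Set.range ((DH 0).map ((ObjectProperty.ι (DRing.IsDerivedComplete I)).map
          ((DRing.derivedCompletion I).map ((DRing.RgammaIε J).app (Dual.inD A M))))).hom =
        (fun s : M => ((DH 0).map (DRing.toDerivedCompletion I (Dual.inD A M))).hom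
          (((DerivedCategory.singleFunctorCompHomologyFunctorIso (ModuleCat.{u} A) 0).inv.app
            (ModuleCat.of A M)).hom s)) ''
          {s : M | ∃ J' : Ideal A, J' ≤ J ∧ J ≤ (J' ⊔ I).radical ∧ s ∈ DRing.torsionSub J' M} := by
  haveI hM : IsAdicComplete I M := AdicLim.isAdicComplete_of_finite M
  obtain ⟨l, hl, π, θ, hθ, -⟩ := exists_cech_iso J
  let Mm := ModuleCat.of A M
  let q : ∀ N : ModuleCat.{u} A, (tcx N).obj (CC l) ⟶ (sgl).obj N := fun N =>
    (tcx N).map π ≫ (tensorSingleIso N).hom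
  have hqQ : ∀ N, (θ N).hom ≫ (DRing.RgammaIε J).app ((DerivedCategory.singleFunctor (ModuleCat.{u} A) 0).obj N) =
      DerivedCategory.Q.map (q N) := fun N => (hθ N).trans (DerivedCategory.Q.map_comp _ _).symm
  have hq : ∀ N, ∀ T : Dual.D A, (∀ f ∈ l, TorsD f T) →
      Function.Bijective fun α : T ⟶ DerivedCategory.Q.obj ((tcx N).obj (CC l)) => α ≫ DerivedCategory.Q.map (q N) := by
    intro N T hT
    have hT' : ∀ f ∈ J, TorsD f T := fun f hf => torsD_of_forall (I := J)
      (fun n => (isPowerTorsion_iff hl (IsNoetherian.noetherian J) _).2 fun g hg => hT g hg n) hf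
    refine bij_congr ((bijective_ε J ((DerivedCategory.singleFunctor (ModuleCat.{u} A) 0).obj N) T hT').comp
      ((Iso.refl T).homCongr (θ N)).bijective) fun α => ?_
    exact (congrArg (· ≫ _) (Category.id_comp (α ≫ (θ N).hom))).trans
      ((Category.assoc _ _ _).trans (congrArg (α ≫ ·) (hqQ N)))
  let g : ∀ N : ModuleCat.{u} A, ((tcx N).obj (CC l)).X 0 ⟶ N := fun N =>
    (q N).f 0 ≫ (HomologicalComplex.singleObjXSelf (ComplexShape.up ℤ) 0 N).hom
  have hnat : ∀ {N N' : ModuleCat.{u} A} (i : N ⟶ N'), (tcxMap i (CC l)).f 0 ≫ g N' = g N ≫ i := by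
    intro N N' i
    have h1 : tcxMap i (CC l) ≫ (tcx N').map π = (tcx N).map π ≫ tcxMap i _ :=
      HomologicalComplex.hom_ext _ _ fun j => (whisker_exchange i (π.f j)).symm
    have h2 : tcxMap i (CC l) ≫ q N' = q N ≫ (sgl).map i := by
      simp only [q, Category.assoc, tensorSingleIso_natural]
      rw [← Category.assoc, h1, Category.assoc]
    have h3 := HomologicalComplex.congr_hom h2 0
    simp only [HomologicalComplex.comp_f, HomologicalComplex.single_map_f_self] at h3
    simp only [g]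
    rw [← Category.assoc, h3]
    simp
  let P := (adicCx I).obj ((tcx Mm).obj (CC l))
  obtain ⟨hC, huniv⟩ := universal_adicMap I (CC l) (l.length : ℤ) (fun j => flat_extCech l j)
    (fun j hj => extCech_X_high _ l j hj) Mm
  have hneg : IsZero (P.X (-1)) :=
    (adicF I).map_isZero ((tensorLeft Mm).map_isZero (extCech_X_neg _ l (-1) (by omega)))
  let χ₀ : P.X 0 ⟶ Mm := (adicF I).map (g Mm) ≫ ModuleCat.ofHom (AdicCompletion.ofLinearEquiv I M).symm.toLinearMap
  let χ : P ⟶ (sgl).obj Mm := HomologicalComplex.mkHomToSingle χ₀ fun i hi => by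
    obtain rfl : i = -1 := by simp at hi; omega
    exact hneg.eq_of_src _ _
  have hof : ∀ y, χ₀.hom (AdicCompletion.of I _ y) = (g Mm).hom y := fun y => by
    show (AdicCompletion.ofLinearEquiv I M).symm (AdicCompletion.map I (g Mm).hom (AdicCompletion.of I _ y)) = _
    rw [AdicCompletion.map_of]
    exact (AdicCompletion.ofLinearEquiv I M).symm_apply_apply _
  have hχ : adicMap I ((tcx Mm).obj (CC l)) ≫ χ = q Mm := HomologicalComplex.to_single_hom_ext (by
    rw [HomologicalComplex.comp_f, HomologicalComplex.mkHomToSingle_f, ← Category.assoc, Iso.comp_inv_eq]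
    exact ModuleCat.hom_ext (LinearMap.ext hof))
  let φn : ∀ n, P ⟶ (tcx (quotM I M n)).obj (CC l) := fun n =>
    (NatTrans.mapHomologicalComplex (pT I M n) (ComplexShape.up ℤ)).app (CC l)
  have hmod : ∀ n (x : P.X 0), (g (quotM I M n)).hom ((φn n).f 0 x) =
      Submodule.Quotient.mk (χ₀.hom x) := by
    intro n x
    obtain ⟨z, hz⟩ := Submodule.Quotient.mk_surjective _ (AdicCompletion.eval I (M ⊗[A] (CC l).X 0) n x)
    have h1 : (φn n).f 0 x = (tcxMap (ModuleCat.ofHom (Submodule.mkQ (I ^ n • ⊤ : Submodule A M)) :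
        Mm ⟶ quotM I M n) (CC l)).f 0 z := by
      show qT I M n ((CC l).X 0) (AdicCompletion.eval I (M ⊗[A] (CC l).X 0) n x) = _
      rw [← hz, qT_mk]
      rfl
    rw [h1]
    refine (ConcreteCategory.congr_hom (hnat (N := Mm) (N' := quotM I M n)
      (ModuleCat.ofHom (Submodule.mkQ (I ^ n • ⊤ : Submodule A M)))) z).trans ?_
    have h2 : AdicCompletion.of I M (χ₀.hom x) = AdicCompletion.map I (g Mm).hom x :=
      (AdicCompletion.ofLinearEquiv I M).apply_symm_apply _
    have h3 := congrArg (AdicCompletion.eval I M n) h2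
    show Submodule.Quotient.mk ((g Mm).hom z) = _
    refine Eq.trans ?_ h3.symm
    show _ = LinearMap.reduceModIdeal (I ^ n) (g Mm).hom (AdicCompletion.eval I (M ⊗[A] (CC l).X 0) n x)
    rw [← hz]
    rfl
  have hcyc : ∀ n (x : LinearMap.ker (P.sc 0).g.hom), (φn n).f 0 x.1 ∈
      LinearMap.ker (((tcx (quotM I M n)).obj (CC l)).sc 0).g.hom := fun n x =>
    (ConcreteCategory.congr_hom ((HomologicalComplex.shortComplexFunctor _ _ 0).map (φn n)).comm₂₃ x.1).trans
      ((congrArg ((φn n).f _).hom x.2).trans (map_zero _))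
  have hinj : ∀ x : LinearMap.ker (P.sc 0).g.hom, χ₀.hom x.1 = 0 → x = 0 := fun x hx => by
    refine Subtype.ext (pT_ext I M _ x.1 fun n => ?_)
    exact congrArg Subtype.val ((cech_H0 l _ _ (hq (quotM I M n))).1 ⟨_, hcyc n x⟩
      ((hmod n x.1).trans (by rw [hx]; rfl)))
  have hmem : ∀ x : LinearMap.ker (P.sc 0).g.hom, ∀ n, ∀ f ∈ J, ∃ k : ℕ,
      f ^ k • χ₀.hom x.1 ∈ (I ^ n • ⊤ : Submodule A M) := by
    intro x n f hf
    have h1 : (Submodule.Quotient.mk (χ₀.hom x.1) : M ⧸ (I ^ n • ⊤ : Submodule A M)) ∈ DRing.torsionSub J _ := by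
      rw [← hl, mem_torsionSub_span_iff]
      intro b hb
      obtain ⟨k, hk⟩ := (cech_H0 l _ _ (hq (quotM I M n))).2.1 ⟨_, hcyc n x⟩ b hb
      exact ⟨k, (congrArg (b ^ k • ·) (hmod n x.1).symm).trans hk⟩
    obtain ⟨k, hk⟩ := h1
    exact ⟨k, (Submodule.Quotient.mk_eq_zero _).1 ((Submodule.Quotient.mk_smul _ _ _).trans (hk _ (Ideal.pow_mem_pow hf k)))⟩
  have hsurj : ∀ s : M, (∀ n, ∀ f ∈ J, ∃ k : ℕ, f ^ k • s ∈ (I ^ n • ⊤ : Submodule A M)) →
      ∃ x : LinearMap.ker (P.sc 0).g.hom, χ₀.hom x.1 = s := by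
    intro s hs
    choose z hz using fun n => (cech_H0 l _ _ (hq (quotM I M n))).2.2 (Submodule.Quotient.mk s) fun b hb => by
      obtain ⟨k, hk⟩ := hs n b (hl ▸ Ideal.subset_span hb)
      exact ⟨k, (Submodule.Quotient.mk_smul _ _ _).symm.trans ((Submodule.Quotient.mk_eq_zero _).2 hk)⟩
    let tt := fun n => tcxMap (quotMap I M n) (CC l)
    have hcomp : ∀ n, (tt n).f 0 (z (n + 1)).1 = (z n).1 := fun n => by
      have hc : (tt n).f 0 (z (n + 1)).1 ∈ LinearMap.ker (((tcx (quotM I M n)).obj (CC l)).sc 0).g.hom :=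
        (ConcreteCategory.congr_hom ((HomologicalComplex.shortComplexFunctor _ _ 0).map (tt n)).comm₂₃ _).trans
          ((congrArg ((tt n).f _).hom (z (n + 1)).2).trans (map_zero _))
      have h0 := (cech_H0 l _ _ (hq (quotM I M n))).1 (⟨_, hc⟩ - z n) (by
        have e1 : (g (quotM I M n)).hom ((tt n).f 0 (z (n + 1)).1) = Submodule.Quotient.mk s :=
          (ConcreteCategory.congr_hom (hnat (quotMap I M n)) _).trans
            (congrArg (quotMap I M n).hom (hz (n + 1)))
        exact (map_sub (g (quotM I M n)).hom _ _).trans (sub_eq_zero.2 (e1.trans (hz n).symm)))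
      exact congrArg Subtype.val (sub_eq_zero.1 h0)
    obtain ⟨x, hx⟩ := exists_adic_lift I M ((CC l).X 0) (fun n => (z n).1) hcomp
    have hxc : x ∈ LinearMap.ker (P.sc 0).g.hom := pT_ext I M _ _ fun n =>
      (ConcreteCategory.congr_hom ((HomologicalComplex.shortComplexFunctor _ _ 0).map (φn n)).comm₂₃ x).symm.trans
        ((congrArg (((tcx (quotM I M n)).obj (CC l)).sc 0).g.hom (hx n)).trans (z n).2)
    refine ⟨⟨x, hxc⟩, sub_eq_zero.1 (IsHausdorff.haus' (I := I) _ fun n => ?_)⟩
    rw [SModEq.zero, ← Submodule.Quotient.mk_eq_zero, Submodule.Quotient.mk_sub, sub_eq_zero]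
    exact (hmod n x).symm.trans ((congrArg (g (quotM I M n)).hom (hx n)).trans (hz n))
  let R := (DRing.RgammaI J).obj (Dual.inD A M)
  let η : R ⟶ DRing.toD P := (θ Mm).inv ≫ DerivedCategory.Q.map (adicMap I ((tcx Mm).obj (CC l)))
  have hη : ∀ E, DRing.IsDerivedComplete I E → Function.Bijective fun α : DRing.toD P ⟶ E => η ≫ α := fun E hE =>
    bij_congr ((bij_iso (θ Mm).inv).comp (huniv E hE)) fun α => (Category.assoc _ _ _).symm
  obtain ⟨w, hw⟩ := (unit_bijective R hC).2 η
  obtain ⟨v, hv⟩ := (hη _ ((DRing.derivedCompletion I).obj R).property).2 (DRing.toDerivedCompletion I R)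
  simp only at hw hv
  let eC : ((DRing.derivedCompletion I).obj R).obj ≅ DRing.toD P :=
    ⟨w, v, (unit_bijective R ((DRing.derivedCompletion I).obj R).property).1 (by
      simp only [reassoc_of% hw, hv]; exact (Category.comp_id _).symm),
      (hη _ hC).1 (by simp only [reassoc_of% hv, hw]; exact (Category.comp_id _).symm)⟩
  have hMc : DRing.IsDerivedComplete I (Dual.inD A M) :=
    (isDerivedComplete_inD_iff I M).2 fun f hf => tele_of_isAdicComplete I hf
  let C' := (DRing.derivedCompletion I).obj (Dual.inD A M)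
  let u := DRing.toDerivedCompletion I (Dual.inD A M)
  obtain ⟨u', hu'⟩ := (unit_bijective (Dual.inD A M) hMc).2 (𝟙 _)
  simp only at hu'
  haveI : IsIso u := ⟨u', hu', (unit_bijective (Dual.inD A M) C'.property).1 (by
    simp only [reassoc_of% hu']; exact (Category.comp_id _).symm)⟩
  have key : (ObjectProperty.ι (DRing.IsDerivedComplete I)).map
      ((DRing.derivedCompletion I).map ((DRing.RgammaIε J).app (Dual.inD A M))) =
      eC.hom ≫ DerivedCategory.Q.map χ ≫ u := by
    refine (unit_bijective R C'.property).1 ?_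
    show DRing.toDerivedCompletion I R ≫ _ = DRing.toDerivedCompletion I R ≫ w ≫ _
    rw [reassoc_of% hw]
    refine ((DRing.derivedCompletionAdj I).unit.naturality ((DRing.RgammaIε J).app (Dual.inD A M))).symm.trans ?_
    have h4 : (θ Mm).inv ≫ DerivedCategory.Q.map (adicMap I ((tcx Mm).obj (CC l))) ≫ DerivedCategory.Q.map χ =
        (DRing.RgammaIε J).app (Dual.inD A M) := by
      rw [← Functor.map_comp, hχ, Iso.inv_comp_eq]
      exact (hqQ Mm).symm
    show _ = ((θ Mm).inv ≫ DerivedCategory.Q.map _) ≫ DerivedCategory.Q.map χ ≫ u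
    rw [← Category.assoc, Category.assoc (θ Mm).inv, h4]
    rfl
  let φ := DerivedCategory.homologyFunctorFactors (ModuleCat.{u} A) 0
  let sh := HomologicalComplex.singleObjHomologySelfIso (ComplexShape.up ℤ) 0 Mm
  have hσ : ∀ s : M, ((DerivedCategory.singleFunctorCompHomologyFunctorIso (ModuleCat.{u} A) 0).inv.app Mm).hom s =
      φ.inv.app _ (sh.inv s) := fun s => by
    simp [DerivedCategory.singleFunctorCompHomologyFunctorIso]
    rw [DerivedCategory.singleFunctorsPostcompQIso_inv_hom]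
    exact ConcreteCategory.congr_hom ((DH 0).map_id _) _
  let ue := ((DH 0).mapIso (asIso u)).toLinearEquiv
  let a := ((DH 0).mapIso eC ≪≫ φ.app P).toLinearEquiv
  let b := ((φ.app ((sgl).obj Mm)) ≪≫ sh).toLinearEquiv
  have hchar : ∀ y, ((DH 0).map ((ObjectProperty.ι (DRing.IsDerivedComplete I)).map
      ((DRing.derivedCompletion I).map ((DRing.RgammaIε J).app (Dual.inD A M))))).hom y =
      ue (b.symm (sh.hom (HomologicalComplex.homologyMap χ 0 (a y)))) := fun y => by
    rw [key, Functor.map_comp, Functor.map_comp]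
    refine congrArg ue (b.injective ?_)
    rw [LinearEquiv.apply_symm_apply]
    exact congrArg sh.hom.hom (ConcreteCategory.congr_hom (φ.hom.naturality χ) ((DH 0).map eC.hom y))
  have hcls : ∀ x : LinearMap.ker (P.sc 0).g.hom,
      sh.hom (HomologicalComplex.homologyMap χ 0 (scCls (P.sc 0) x)) = χ₀.hom x.1 := fun x => by
    have hc : (((sgl).obj Mm).sc 0).g (χ.f 0 x.1) = 0 := by
      rw [HomologicalComplex.shortComplexFunctor_obj_g, HomologicalComplex.single_obj_d]
      rfl
    refine (congrArg sh.hom.hom (scCls_map ((HomologicalComplex.shortComplexFunctor _ _ 0).map χ) x ⟨_, hc⟩ rfl)).trans ?_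
    refine (selfIso_scCls Mm ⟨_, hc⟩).trans ?_
    show (HomologicalComplex.singleObjXSelf (ComplexShape.up ℤ) 0 Mm).hom (χ.f 0 x.1) = _
    rw [HomologicalComplex.mkHomToSingle_f]
    exact Iso.inv_hom_id_apply (HomologicalComplex.singleObjXSelf (ComplexShape.up ℤ) 0 Mm) (χ₀ x.1)
  refine ⟨(injective_iff_map_eq_zero _).2 fun y hy => ?_, ?_⟩
  · obtain ⟨x, hx⟩ := scCls_surjective (P.sc 0) (a y)
    rw [hchar, ← hx, hcls] at hy
    have hy' : χ₀.hom x.1 = 0 := b.symm.map_eq_zero_iff.1 (ue.map_eq_zero_iff.1 hy)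
    apply a.injective
    rw [← hx, hinj x hy', map_zero]
    exact (map_zero a).symm
  · ext t
    constructor
    · rintro ⟨y, rfl⟩
      obtain ⟨x, hx⟩ := scCls_surjective (P.sc 0) (a y)
      refine ⟨χ₀.hom x.1, (torsion_union_iff I J M _).2 (hmem x), ?_⟩
      rw [hchar, ← hx, hcls]
      exact congrArg ue (hσ _)
    · rintro ⟨s, hs, rfl⟩
      obtain ⟨x, hx⟩ := hsurj s ((torsion_union_iff I J M s).1 hs)
      refine ⟨a.symm (scCls (P.sc 0) x), ?_⟩
      rw [hchar, LinearEquiv.apply_symm_apply, hcls, hx]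
      exact congrArg ue (hσ s).symm

end Groth.Agent.RGamma
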