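import Groth.Agent.RGamma.CechFlat
import Groth.Agent.DComplete.ComplexCompletion
import Groth.Agent.DComplete.ProdQ

/-!
# Derived completion of derived torsion of a finite module
-/

set_option autoImplicit false
set_option linter.style.haveILetI false

open CategoryTheory CategoryTheory.Limits CategoryTheory.Pretriangulated
open CategoryTheory.MonoidalCategory
open scoped TensorProduct

universe u

attribute [local instance] HasDerivedCategory.standard

namespace Groth.Agent.RGamma

open DComplete RHomCx Groth.Agent.DRingPC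

variable {A : Type u} [CommRing A] (I : Ideal A) (M : Type u) [AddCommGroup M] [Module A M]

/-- `M / I^n M`. -/
noncomputable abbrev quotM (n : ℕ) : ModuleCat.{u} A := ModuleCat.of A (M ⧸ (I ^ n • ⊤ : Submodule A M))

/-- The transition maps. -/
noncomputable abbrev quotMap (n : ℕ) : quotM I M (n + 1) ⟶ quotM I M n :=
  ModuleCat.ofHom (Submodule.mapQ (I ^ (n + 1) • ⊤ : Submodule A M) (I ^ n • ⊤ : Submodule A M) LinearMap.id
    (Submodule.smul_mono (Ideal.pow_le_pow_right (Nat.le_succ n)) le_rfl))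

theorem ker_rTensor_mkQ (n : ℕ) (N : Type u) [AddCommGroup N] [Module A N] :
    LinearMap.ker ((I ^ n • ⊤ : Submodule A M).mkQ.rTensor N) = (I ^ n • ⊤ : Submodule A (M ⊗[A] N)) := by
  rw [(rTensor_exact N (LinearMap.exact_subtype_mkQ _) (Submodule.mkQ_surjective _)).linearMap_ker_eq]
  refine le_antisymm ?_ (Submodule.smul_le.2 fun a ha x _ => ?_)
  · rintro _ ⟨s, rfl⟩
    induction s using TensorProduct.induction_on with
    | zero => simp
    | add a b ha hb => rw [map_add]; exact add_mem ha hb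
    | tmul w y =>
      show (w : M) ⊗ₜ[A] y ∈ _
      have : (w : M) ⊗ₜ[A] y ∈ (I ^ n • ⊤ : Submodule A M).map ((TensorProduct.mk A M N).flip y) := ⟨_, w.2, rfl⟩
      rw [Submodule.map_smul''] at this
      exact Submodule.smul_mono le_rfl le_top this
  · induction x using TensorProduct.induction_on with
    | zero => rw [smul_zero]; exact zero_mem _
    | add x y hx hy => rw [smul_add]; exact add_mem (hx trivial) (hy trivial)
    | tmul m y => exact ⟨(⟨a • m, Submodule.smul_mem_smul ha Submodule.mem_top⟩ : (I ^ n • ⊤ : Submodule A M)) ⊗ₜ y,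
        (TensorProduct.smul_tmul' a m y).symm⟩

/-- `(M ⊗ N)/I^n = M/I^n ⊗ N`. -/
noncomputable def qT (n : ℕ) (N : Type u) [AddCommGroup N] [Module A N] :
    ((M ⊗[A] N) ⧸ (I ^ n • ⊤ : Submodule A (M ⊗[A] N))) ≃ₗ[A] (M ⧸ (I ^ n • ⊤ : Submodule A M)) ⊗[A] N :=
  (Submodule.quotEquivOfEq _ _ (ker_rTensor_mkQ I M n N).symm).trans
    (LinearMap.quotKerEquivOfSurjective _ (LinearMap.rTensor_surjective N (Submodule.mkQ_surjective _)))

theorem qT_mk (n : ℕ) (N : Type u) [AddCommGroup N] [Module A N] (z : M ⊗[A] N) :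
    qT I M n N (Submodule.Quotient.mk z) = (I ^ n • ⊤ : Submodule A M).mkQ.rTensor N z := rfl

theorem qT_transition (n : ℕ) (N : ModuleCat.{u} A)
    (q : (M ⊗[A] N) ⧸ (I ^ (n + 1) • ⊤ : Submodule A (M ⊗[A] N))) :
    qT I M n N (AdicCompletion.transitionMap I (M ⊗[A] N) (Nat.le_succ n) q) =
      ((quotMap I M n) ▷ N).hom (qT I M (n + 1) N q) := by
  obtain ⟨z, rfl⟩ := Submodule.Quotient.mk_surjective _ q
  show qT I M n N (Submodule.Quotient.mk z) = _
  rw [qT_mk, qT_mk]
  refine Eq.trans ?_ (LinearMap.rTensor_comp_apply _ (quotMap I M n).hom _ z)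
  rfl

/-- The projections of the completion. -/
noncomputable def pT (n : ℕ) : tensorLeft (ModuleCat.of A M) ⋙ adicF I ⟶ tensorLeft (quotM I M n) where
  app N := ModuleCat.ofHom ((qT I M n N).toLinearMap ∘ₗ AdicCompletion.eval I (M ⊗[A] N) n)
  naturality N N' g := by
    refine ModuleCat.hom_ext (LinearMap.ext fun x => ?_)
    obtain ⟨z, hz⟩ := Submodule.Quotient.mk_surjective _ (AdicCompletion.eval I (M ⊗[A] N) n x)
    show qT I M n N' (LinearMap.reduceModIdeal (I ^ n) (g.hom.lTensor M) (AdicCompletion.eval I (M ⊗[A] N) n x)) =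
      g.hom.lTensor _ (qT I M n N (AdicCompletion.eval I (M ⊗[A] N) n x))
    rw [← hz, LinearMap.reduceModIdeal_apply, qT_mk, qT_mk, ← LinearMap.comp_apply, ← LinearMap.comp_apply, LinearMap.rTensor_comp_lTensor,
      LinearMap.lTensor_comp_rTensor]

theorem pT_compat (n : ℕ) (N : ModuleCat.{u} A) :
    (pT I M (n + 1)).app N ≫ (quotMap I M n ▷ N) = (pT I M n).app N := by
  refine ModuleCat.hom_ext (LinearMap.ext fun x => ?_)
  exact (qT_transition I M n N _).symm.trans (congrArg (qT I M n N) (AdicCompletion.transitionMap_comp_eval_apply I _ (Nat.le_succ n) x))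

theorem exists_completion_iso_rlim [IsNoetherianRing A] (J : Ideal A) [DRing.HasRgammaI J]
    [DRing.HasDerivedCompletion I] [∀ K : ℕ → Dual.D A, HasProduct K] [Module.Finite A M] :
    DCoh.IsRlim (fun n : ℕ => (DRing.RgammaI J).obj (Dual.inD A (M ⧸ (I ^ n • ⊤ : Submodule A M))))
      (fun n : ℕ => (DRing.RgammaI J).map ((DerivedCategory.singleFunctor (ModuleCat.{u} A) 0).map (quotMap I M n)))
      ((DRing.derivedCompletion I).obj ((DRing.RgammaI J).obj (Dual.inD A M))).obj ∧
    ∀ i : ℤ, i < 0 →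
      Subsingleton (Dual.HD A ((DRing.derivedCompletion I).obj ((DRing.RgammaI J).obj (Dual.inD A M))).obj i) := by
  obtain ⟨l, hl, π, θ, -, hθ⟩ := exists_cech_iso J
  let Mm := ModuleCat.of A M
  let P := (adicCx I).obj ((tcx Mm).obj (CC l))
  obtain ⟨hC, huniv⟩ := universal_adicMap I (CC l) (l.length : ℤ) (fun j => flat_extCech l j)
    (fun j hj => extCech_X_high _ l j hj) Mm
  obtain ⟨eL⟩ := completion_iso ((DRing.RgammaI J).obj (Dual.inD A M)) _
    ((θ Mm).inv ≫ DerivedCategory.Q.map (adicMap I ((tcx Mm).obj (CC l)))) hC fun E hE =>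
      bij_congr ((bij_iso (θ Mm).inv).comp (huniv E hE)) fun α => (Category.assoc _ _ _).symm
  have hneg : ∀ i : ℤ, i < 0 → IsZero (P.X i) := fun i hi =>
    (adicF I).map_isZero ((tensorLeft Mm).map_isZero (extCech_X_neg _ l i hi))
  refine ⟨isRlim_of_tower P (fun n => (tcx (quotM I M n)).obj (CC l)) (fun n => tcxMap (quotMap I M n) (CC l))
    (fun n => (NatTrans.mapHomologicalComplex (pT I M n) (ComplexShape.up ℤ)).app (CC l))
    (fun n => HomologicalComplex.hom_ext _ _ fun i => pT_compat I M n _) (fun i x hx => AdicCompletion.ext fun n => ?_)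
    (fun i y hy => ?_) (fun n i => LinearMap.rTensor_surjective _ ?_) _ _ (fun n => θ (quotM I M n))
    (fun n => hθ (quotMap I M n)) _ eL, fun i hi => ?_⟩
  · refine ((qT I M n ((CC l).X i)).map_eq_zero_iff.1 (hx n)).trans ?_
    exact (map_zero (AdicCompletion.eval I _ n)).symm
  · let N := (CC l).X i
    let q := fun n => (qT I M n N).symm (y n)
    have hstep : ∀ n, AdicCompletion.transitionMap I (M ⊗[A] N) (Nat.le_succ n) (q (n + 1)) = q n := fun n =>
      (qT I M n N).injective (by
        rw [qT_transition, LinearEquiv.apply_symm_apply, LinearEquiv.apply_symm_apply]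
        exact hy n)
    refine ⟨⟨q, fun {m n} hmn => ?_⟩, fun n => (qT I M n N).apply_symm_apply (y n)⟩
    induction hmn with
    | refl =>
      obtain ⟨z, hz⟩ := Submodule.Quotient.mk_surjective _ (q m)
      rw [← hz]
      rfl
    | @step k hk ih =>
      rw [← ih, ← hstep k]
      obtain ⟨z, hz⟩ := Submodule.Quotient.mk_surjective _ (q (k + 1))
      rw [← hz]
      rfl
  · intro q
    obtain ⟨z, rfl⟩ := Submodule.Quotient.mk_surjective _ q
    exact ⟨Submodule.Quotient.mk z, rfl⟩
  · refine ModuleCat.subsingleton_of_isZero (IsZero.of_iso ?_ ((DerivedCategory.homologyFunctor (ModuleCat.{u} A) i).mapIso eL ≪≫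
      (DerivedCategory.homologyFunctorFactors (ModuleCat.{u} A) i).app P))
    exact ShortComplex.isZero_homology_of_isZero_X₂ _ (hneg i hi)

end Groth.Agent.RGamma
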