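import Groth.Agent.RGamma.Basic

/-!
# Vanishing of derived torsion
-/

set_option autoImplicit false
set_option linter.style.haveILetI false

open CategoryTheory CategoryTheory.Limits CategoryTheory.Pretriangulated

universe u

attribute [local instance] HasDerivedCategory.standard

namespace Groth.Agent.RGamma

open DComplete RHomCx

variable {A : Type u} [CommRing A] (I : Ideal A) [DRing.HasRgammaI I]

theorem gammaCx_map_smul (J : DRing.Cx A) (f : A) :
    (gammaCx I).map (f • 𝟙 J) = f • 𝟙 ((gammaCx I).obj J) := rfl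

theorem isZero_of_isIso_smul {f : A} (hf : f ∈ I) (K : Dual.D A) [IsIso (f • 𝟙 K)] :
    IsZero ((DRing.RgammaI I).obj K) := by
  obtain ⟨J, hJ, -, e, a, -⟩ := exists_model I K
  haveI h1 : IsIso (DerivedCategory.Q.map (f • 𝟙 J)) := by
    have : DerivedCategory.Q.map (f • 𝟙 J) = e.hom ≫ (f • 𝟙 K) ≫ e.inv := by
      rw [Functor.map_smul, CategoryTheory.Functor.map_id, Linear.smul_comp, Category.id_comp,
        Linear.comp_smul, e.hom_inv_id]
    rw [this]
    infer_instance
  obtain ⟨m, hm⟩ : ∃ m : J ⟶ J, DerivedCategory.Q.map m = inv (DerivedCategory.Q.map (f • 𝟙 J)) :=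
    (RHomCx.good J J).lift J _
  have hh : ∀ {a b : J ⟶ J}, DerivedCategory.Q.map a = DerivedCategory.Q.map b →
      DerivedCategory.Q.map ((gammaCx I).map a) = DerivedCategory.Q.map ((gammaCx I).map b) := fun {a b} hab => by
    have hq : (HomotopyCategory.quotient (ModuleCat.{u} A) (ComplexShape.up ℤ)).map a =
        (HomotopyCategory.quotient (ModuleCat.{u} A) (ComplexShape.up ℤ)).map b := by
      refine (TriH.Qh_bijective_of_isKInjective J _).1 ?_
      rw [← cancel_mono ((DerivedCategory.quotientCompQhIso (ModuleCat.{u} A)).hom.app J),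
        DerivedCategory.quotientCompQhIso_hom_naturality, DerivedCategory.quotientCompQhIso_hom_naturality, hab]
    exact (cancel_epi ((DerivedCategory.quotientCompQhIso (ModuleCat.{u} A)).hom.app _)).1 (by
      rw [← DerivedCategory.quotientCompQhIso_hom_naturality, ← DerivedCategory.quotientCompQhIso_hom_naturality,
        HomotopyCategory.eq_of_homotopy _ _ ((DRing.gammaI I).mapHomotopy (HomotopyCategory.homotopyOfEq _ _ hq))])
  haveI h2 : IsIso (DerivedCategory.Q.map ((gammaCx I).map (f • 𝟙 J))) := by
    refine ⟨DerivedCategory.Q.map ((gammaCx I).map m), ?_, ?_⟩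
    · rw [← Functor.map_comp, ← Functor.map_comp, ← CategoryTheory.Functor.map_id,
        ← CategoryTheory.Functor.map_id]
      exact hh (by rw [Functor.map_comp, hm, IsIso.hom_inv_id, CategoryTheory.Functor.map_id])
    · rw [← Functor.map_comp, ← Functor.map_comp, ← CategoryTheory.Functor.map_id,
        ← CategoryTheory.Functor.map_id]
      exact hh (by rw [Functor.map_comp, hm, IsIso.inv_hom_id, CategoryTheory.Functor.map_id])
  rw [gammaCx_map_smul] at h2
  have hq := (DerivedCategory.isIso_Q_map_iff_quasiIso _ _).1 h2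
  refine IsZero.of_iso (DComplete.isZero_of_forall_isZero _ fun n => ?_) a.symm
  refine IsZero.of_iso ?_ ((DerivedCategory.homologyFunctorFactors (ModuleCat.{u} A) n).app _)
  refine @ModuleCat.isZero_of_subsingleton _ _ _ (subsingleton_of_forall_eq 0 fun x => ?_)
  obtain ⟨k, hk⟩ := tors_gammaCx hf J n x
  have hinj : Function.Injective fun y : ((gammaCx I).obj J).homology n => f • y := fun y z hyz => by
    haveI : IsIso (HomologicalComplex.homologyMap (f • 𝟙 ((gammaCx I).obj J)) n) := inferInstance
    exact (ConcreteCategory.bijective_of_isIso (HomologicalComplex.homologyMap (f • 𝟙 ((gammaCx I).obj J)) n)).1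
      ((homologyMap_smul_id _ f n y).trans (hyz.trans (homologyMap_smul_id _ f n z).symm))
  induction k generalizing x with
  | zero => rwa [pow_zero, one_smul] at hk
  | succ k ih =>
    refine ih x (hinj ?_)
    refine (smul_smul f (f ^ k) x).trans
      (((congrArg (· • x) (pow_succ' f k).symm).trans hk).trans ?_)
    show (0 : ((gammaCx I).obj J).homology n) = f • (0 : ((gammaCx I).obj J).homology n)
    rw [smul_zero]

theorem isZero_Q_of_bijective (K : DRing.Cx A) {f : A} (hf : f ∈ I)
    (hK : ∀ n : ℤ, Function.Bijective (fun x : K.X n => f • x)) :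
    IsZero ((DRing.RgammaI I).obj (DerivedCategory.Q.obj K)) := by
  haveI : ∀ n, IsIso ((f • 𝟙 K).f n) := fun n => (ConcreteCategory.isIso_iff_bijective _).2 (hK n)
  haveI : IsIso (f • 𝟙 K) := HomologicalComplex.Hom.isIso_of_components _
  haveI : IsIso (f • 𝟙 (DerivedCategory.Q.obj K)) := by
    rw [← CategoryTheory.Functor.map_id, ← Functor.map_smul]
    infer_instance
  exact isZero_of_isIso_smul I hf _

/-- Čech complexes of injective modules over a Noetherian ring. -/
theorem isZero_extCechH_injective [IsNoetherianRing A] (fs : List A) (E : ModuleCat.{u} A) [Injective E]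
    (q : ℤ) (hq : 1 ≤ q) : IsZero (DerCA.extCechH fs E q) := by
  let P := InjectiveResolution.self E
  obtain ⟨e⟩ := LocCohLib.nonempty_extCechIso P fs
  obtain ⟨k, rfl⟩ := Int.eq_ofNat_of_zero_le (le_trans zero_le_one hq)
  have hz : IsZero (P.cochainComplex.X (k : ℤ)) :=
    IsZero.of_iso (HomologicalComplex.isZero_single_obj_X (ComplexShape.up ℕ) 0 E k (by omega))
      (P.cocomplex.extendXIso ComplexShape.embeddingUpNat rfl)
  refine IsZero.of_iso ?_ (((DerivedCategory.homologyFunctorFactors (ModuleCat.{u} A) (k : ℤ)).app _).symm ≪≫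
    (DerivedCategory.homologyFunctor (ModuleCat.{u} A) (k : ℤ)).mapIso e ≪≫
    (DerivedCategory.homologyFunctorFactors (ModuleCat.{u} A) (k : ℤ)).app _)
  exact ShortComplex.isZero_homology_of_isZero_X₂ _ ((DRing.gammaI _).map_isZero hz)

end Groth.Agent.RGamma
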